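import Cfsg.Agent.Lib.Classical.DicksonBasics
import Cfsg.Agent.Lib.Classical.TwoByTwo
import Cfsg.Agent.Lib.Classical.SL
import Cfsg.Agent.Lib.Classical.SL2Involutions
import Cfsg.Agent.Lib.Recog.SL2Orders

/-!
Facts about `SL(2, F)` in characteristic two.
-/

set_option autoImplicit false
set_option linter.style.haveILetI false

namespace Cfsg.Agent.AbelCent.SL

open Matrix

variable {F : Type*} [Field F] [CharP F 2]

local notation "S" => Matrix.SpecialLinearGroup (Fin 2) F
local notation "M2" => Matrix (Fin 2) (Fin 2) F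

theorem eq_one_of_scalar (a : S) (ha : TwoByTwo.IsScalar a.1) : a = 1 := by
  haveI : Fact (Nat.Prime 2) := ⟨Nat.prime_two⟩
  have hd : a.1 0 0 * a.1 1 1 - a.1 0 1 * a.1 1 0 = 1 := by rw [← Matrix.det_fin_two]; exact a.2
  rw [ha.1, ha.2.1, ← ha.2.2] at hd
  have h1 : (a.1 0 0 - 1) ^ 2 = 0 := by
    rw [sub_pow_char, one_pow, sub_eq_zero, sq]
    simpa using hd
  have h2 : a.1 0 0 = 1 := sub_eq_zero.1 (pow_eq_zero_iff two_ne_zero |>.1 h1)
  apply Subtype.ext
  rw [TwoByTwo.isScalar_iff.1 ha, h2, one_smul]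
  rfl

theorem center_eq_bot : Subgroup.center S = ⊥ := by
  rw [eq_bot_iff]
  intro z hz
  obtain ⟨r, -, hr⟩ := Matrix.SpecialLinearGroup.mem_center_iff.1 hz
  rw [Subgroup.mem_bot]
  apply eq_one_of_scalar
  rw [← hr]
  simp [TwoByTwo.IsScalar]

theorem mul_self_of_trace {x : S} (h : (x : M2).trace = 0) : x * x = 1 := by
  apply Subtype.ext
  have e := SL2Orders.sq_eq x
  rw [h, zero_smul, sub_zero, pow_two] at e
  rw [Matrix.SpecialLinearGroup.coe_mul, Matrix.SpecialLinearGroup.coe_one, eq_neg_of_add_eq_zero_left e]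
  ext i j
  simp [CharTwo.neg_eq]

/-- An element commuting with an involution squares to one. -/
theorem invol_comm {t x : S} (ht : orderOf t = 2) (hx : x * t = t * x) : x * x = 1 := by
  have hns : ¬ TwoByTwo.IsScalar (t : M2) := fun h => by
    rw [eq_one_of_scalar t h, orderOf_one] at ht; norm_num at ht
  obtain ⟨a, b, e⟩ := TwoByTwo.commute_eq hns (congrArg Subtype.val hx).symm
  have ht2 : t * t = 1 := by
    have := pow_orderOf_eq_one t
    rwa [ht, pow_two] at this
  have htt : (t : M2) * (t : M2) = 1 := congrArg Subtype.val ht2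
  have hd : (a * b) • (t : M2) + (a * b) • (t : M2) = 0 := by
    rw [← add_smul, CharTwo.add_self_eq_zero, zero_smul]
  have e2 : (x : M2) * (x : M2) = (a * a + b * b) • (1 : M2) := by
    rw [e, add_mul, mul_add, mul_add]
    simp only [smul_mul_assoc, mul_smul_comm, one_mul, mul_one, smul_smul, htt, mul_comm b a]
    rw [add_smul, ← add_assoc]
    linear_combination (norm := abel) hd
  apply eq_one_of_scalar
  rw [Matrix.SpecialLinearGroup.coe_mul, e2]
  exact TwoByTwo.isScalar_smul_one _

theorem card_S [Finite F] : Nat.card S = Nat.card F * (Nat.card F - 1) * (Nat.card F + 1) :=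
  SL2Inv.card_sl2

theorem closure_invols :
    Subgroup.closure {t : S | orderOf t = 2} = ⊤ := by
  rw [eq_top_iff, ← ClassicalSL.closure_elemTransvections, Subgroup.closure_le]
  rintro g ⟨i, j, h, c, rfl⟩
  by_cases h1 : SpecialLinearGroup.transvection h c = (1 : S)
  · rw [h1]; exact one_mem _
  refine Subgroup.subset_closure (orderOf_eq_prime (p := 2) ?_ h1)
  rw [pow_two, ← SpecialLinearGroup.transvection_add, CharTwo.add_self_eq_zero]
  exact Subtype.ext (by simp [SpecialLinearGroup.transvection_coe])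

theorem sylow_cyclic [Finite F] {r : ℕ} [Fact r.Prime] (hr : r ≠ 2) (P : Sylow r S) :
    IsCyclic (P : Subgroup S) := by
  rcases subsingleton_or_nontrivial (P : Subgroup S) with h | h
  · infer_instance
  have := P.2.center_nontrivial
  obtain ⟨z, hz⟩ := exists_ne (1 : Subgroup.center (P : Subgroup S))
  set x : S := ((z : (P : Subgroup S)) : S) with hxdef
  have hx1 : x ≠ 1 := fun e => hz (Subtype.ext (Subtype.ext e))
  have hxx : x * x ≠ 1 := by
    intro e
    obtain ⟨k, hk⟩ := P.2 (z : (P : Subgroup S))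
    have h1 : orderOf x ∣ r ^ k := orderOf_dvd_of_pow_eq_one (congrArg Subtype.val hk)
    have h2 : orderOf x ∣ 2 := orderOf_dvd_of_pow_eq_one (by rw [pow_two, e])
    have hco : Nat.Coprime (r ^ k) 2 := ((Nat.coprime_primes Fact.out Nat.prime_two).2 hr).pow_left k
    exact hx1 (orderOf_eq_one_iff.1 (Nat.eq_one_of_dvd_coprimes hco h1 h2))
  have hsc : ¬ PStable.IsSc x := by
    rintro ⟨c, hc⟩
    exact hx1 (eq_one_of_scalar x (hc ▸ TwoByTwo.isScalar_smul_one c))
  have htr : Matrix.trace (x : M2) ^ 2 ≠ 4 := by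
    rw [show (4 : F) = 2 * 2 by norm_num, (CharTwo.two_eq_zero : (2 : F) = 0), mul_zero, Ne, pow_eq_zero_iff two_ne_zero]
    exact fun e => hxx (mul_self_of_trace e)
  haveI := (Dickson.cent_cyclic (H := (⊤ : Subgroup S)) hsc htr).1
  have hle : (P : Subgroup S) ≤ PStable.cent ⊤ x := fun y hy =>
    PStable.mem_cent.2 ⟨trivial, congrArg Subtype.val (Subgroup.mem_center_iff.1 z.2 ⟨y, hy⟩)⟩
  exact isCyclic_of_injective (Subgroup.inclusion hle) (Subgroup.inclusion_injective hle)

/-- `PSL(2, F)` is `SL(2, F)` in characteristic two. -/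
noncomputable def pslEquiv : Matrix.ProjectiveSpecialLinearGroup (Fin 2) F ≃* S :=
  (QuotientGroup.quotientMulEquivOfEq center_eq_bot).trans QuotientGroup.quotientBot

end Cfsg.Agent.AbelCent.SL
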