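import Cfsg.Agent.Lib.AbelCent.Basic
import Cfsg.Agent.Lib.AbelCent.SL

/-!
Groups with a map onto `SL(2, 2^n)` with central kernel of odd order.
-/

set_option autoImplicit false
set_option linter.style.haveILetI false
set_option linter.unusedSectionVars false

namespace Cfsg.Agent.AbelCent

universe u

variable {G : Type u} [Group G] [Finite G]

/-- `G` is a central extension of `SL(2, 2^n)` by a group of odd order. -/
def Good (G : Type u) [Group G] : Prop :=
  ∃ (F : Type) (_ : Field F) (_ : Fintype F) (_ : CharP F 2), 4 ≤ Fintype.card F ∧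
    ∃ π : G →* Matrix.SpecialLinearGroup (Fin 2) F,
      Function.Surjective π ∧ π.ker ≤ Subgroup.center G ∧ Odd (Nat.card π.ker)

theorem eq_one_of_odd_two_pow {x : G} (ho : Odd (orderOf x)) {j : ℕ} (hj : x ^ 2 ^ j = 1) : x = 1 :=
  orderOf_eq_one_iff.1 (Nat.eq_one_of_dvd_coprimes ((Nat.coprime_two_right.2 ho).pow_right j)
    dvd_rfl (orderOf_dvd_of_pow_eq_one hj))

theorem odd_of_mem {N : Subgroup G} (hN : Odd (Nat.card N)) {x : G} (hx : x ∈ N) : Odd (orderOf x) :=
  hN.of_dvd_nat (Subgroup.orderOf_dvd_natCard N hx)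

/-- An involution of the image under a map with odd kernel lifts to an involution. -/
theorem exists_invol_lift {K : Type*} [Group K] (f : G →* K) (hk : Odd (Nat.card f.ker))
    (hf : Function.Surjective f) {s : K} (hs : orderOf s = 2) :
    ∃ t : G, orderOf t = 2 ∧ f t = s := by
  obtain ⟨g, rfl⟩ := hf s
  obtain ⟨j, m, hm, e⟩ := Nat.exists_eq_two_pow_mul_odd (n := orderOf g) (orderOf_pos g).ne'
  have hgm : f (g ^ m) = f g := by
    obtain ⟨i, rfl⟩ := hm
    rw [map_pow, pow_succ, pow_mul, ← hs, pow_orderOf_eq_one, one_pow, one_mul]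
  refine ⟨g ^ m, Invol.order_two_of_sq ?_ fun h1 => ?_, hgm⟩
  · refine eq_one_of_odd_two_pow (j := j) (odd_of_mem hk ?_) ?_
    · rw [MonoidHom.mem_ker, map_mul, hgm, ← pow_two, ← hs, pow_orderOf_eq_one]
    · rw [← pow_two, ← pow_mul, ← pow_mul,
        show m * (2 * 2 ^ j) = 2 ^ j * m * 2 by ring, pow_mul, ← e, pow_orderOf_eq_one, one_pow]
  · rw [h1, map_one] at hgm
    rw [← hgm, orderOf_one] at hs
    norm_num at hs

namespace Good

variable (hg : Good G)
include hg

theorem center_of_odd {t y : G} (ht : orderOf t = 2) (hy : Odd (orderOf y)) (hc : y ∈ Cn t) :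
    y ∈ Subgroup.center G := by
  obtain ⟨F, _, _, _, -, π, -, hker, hodd⟩ := hg
  haveI : Fact (Nat.Prime 2) := ⟨Nat.prime_two⟩
  have ht2 : t ^ 2 = 1 := ht ▸ pow_orderOf_eq_one t
  have ht' : orderOf (π t) = 2 := orderOf_eq_prime (by rw [← map_pow, ht2, map_one])
    fun e => Invol.ne_one ht (eq_one_of_odd_two_pow (j := 1) (odd_of_mem hodd (MonoidHom.mem_ker.2 e))
      (by rw [pow_one, ht2]))
  have h2 := SL.invol_comm ht' (x := π y) (by rw [← map_mul, ← map_mul, mem_Cn.1 hc])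
  refine hker (MonoidHom.mem_ker.2 (eq_one_of_odd_two_pow (j := 1) (hy.of_dvd_nat (orderOf_map_dvd π y)) ?_))
  rw [pow_one, pow_two, h2]

theorem two_elt {x : G} {j : ℕ} (hj : x ^ 2 ^ j = 1) : x * x = 1 := by
  obtain ⟨F, _, _, _, -, π, -, -, hodd⟩ := hg
  have hpi : π x * π x = 1 := by
    by_cases h1 : π x = 1
    · rw [h1, one_mul]
    have hj' : π x ^ 2 ^ j = 1 := by rw [← map_pow, hj, map_one]
    obtain ⟨i, -, hi⟩ := (Nat.dvd_prime_pow Nat.prime_two).1 (orderOf_dvd_of_pow_eq_one hj')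
    obtain ⟨i, rfl⟩ := Nat.exists_eq_succ_of_ne_zero
      (fun e : i = 0 => h1 (orderOf_eq_one_iff.1 (by rw [hi, e, pow_zero])))
    refine SL.invol_comm (t := π x ^ 2 ^ i) ?_ (Commute.self_pow (π x) _).eq
    rw [orderOf_pow, hi, Nat.gcd_eq_right (pow_dvd_pow 2 (Nat.le_succ i)), pow_succ,
      Nat.mul_div_cancel_left _ (Nat.two_pow_pos i)]
  refine eq_one_of_odd_two_pow (j := j) (odd_of_mem hodd (MonoidHom.mem_ker.2 (by rw [map_mul, hpi]))) ?_
  rw [← pow_two, ← pow_mul, mul_comm, pow_mul, hj, one_pow]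

/-- The order, split into the parts needed later. -/
theorem card_eq (P : Sylow 2 G) : ∃ d : ℕ, Odd d ∧ 4 ≤ Nat.card (P : Subgroup G) ∧
    Nat.card G = Nat.card (P : Subgroup G) *
      ((Nat.card (P : Subgroup G) - 1) * (Nat.card (P : Subgroup G) + 1)) * d ∧
    (∀ t y : G, orderOf t = 2 → y ∈ Cn t → Odd (orderOf y) → y ∈ Subgroup.center G) ∧
    d = Nat.card {y : G // y ∈ Subgroup.center G ∧ Odd (orderOf y)} := by
  have hco := fun t y ht hc hy => hg.center_of_odd (t := t) (y := y) ht hy hc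
  obtain ⟨F, _, _, _, h4, π, hsurj, hker, hodd⟩ := hg
  haveI : Fact (Nat.Prime 2) := ⟨Nat.prime_two⟩
  obtain ⟨n, -, hn⟩ := FiniteField.card F 2
  have hq : Nat.card F = 2 ^ (n : ℕ) := by rw [Nat.card_eq_fintype_card, hn]
  have hG : Nat.card G = 2 ^ (n : ℕ) * ((2 ^ (n : ℕ) - 1) * (2 ^ (n : ℕ) + 1)) * Nat.card π.ker := by
    rw [← π.ker.card_mul_index, Subgroup.index_ker, MonoidHom.range_eq_top.2 hsurj, Subgroup.card_top,
      SL.card_S, hq]
    ring
  have hev : Even (2 ^ (n : ℕ)) := Nat.even_pow.2 ⟨even_two, n.pos.ne'⟩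
  have hm : ¬ 2 ∣ (2 ^ (n : ℕ) - 1) * (2 ^ (n : ℕ) + 1) * Nat.card π.ker := by
    rw [← even_iff_two_dvd, Nat.not_even_iff_odd]
    have := Nat.one_le_two_pow (n := (n : ℕ))
    exact ((Nat.Even.sub_odd this hev odd_one).mul hev.add_one).mul hodd
  have hP : Nat.card (P : Subgroup G) = 2 ^ (n : ℕ) := by
    rw [P.card_eq_multiplicity]
    congr 1
    rw [hG, mul_assoc]
    rw [Nat.factorization_mul (by positivity) (fun e => hm (by rw [e]; exact dvd_zero 2)),
      Finsupp.add_apply, Nat.prime_two.factorization_pow, Finsupp.single_eq_same,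
        Nat.factorization_eq_zero_of_not_dvd hm, add_zero]
  refine ⟨Nat.card π.ker, hodd, by rw [hP, ← hn]; exact h4, by rw [hP]; exact hG, hco, ?_⟩
  refine Nat.card_congr (Equiv.subtypeEquivRight fun y => ⟨fun h => ⟨hker h, odd_of_mem hodd h⟩, ?_⟩)
  rintro ⟨hc, -⟩
  have : π y ∈ Subgroup.center (Matrix.SpecialLinearGroup (Fin 2) F) :=
    Subgroup.mem_center_iff.2 fun s => by
      obtain ⟨g, rfl⟩ := hsurj s
      rw [← map_mul, ← map_mul, Subgroup.mem_center_iff.1 hc g]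
  rwa [SL.center_eq_bot, Subgroup.mem_bot, ← MonoidHom.mem_ker] at this

end Good

end Cfsg.Agent.AbelCent
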