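import Cfsg.Agent.Lib.AbelCent.Parts
import Cfsg.Agent.Lib.ZassAbelian.Main
import Cfsg.Agent.S1230
import Mathlib.GroupTheory.GroupAction.MultiplePrimitivity

/-!
All centralizers of non-trivial elements of `A` lie in `H`.
-/

set_option autoImplicit false
set_option linter.style.haveILetI false
set_option linter.unusedSectionVars false

namespace Cfsg.Agent.AbelCent

open Cfsg.Agent.Invol MulAction

universe u

variable {G : Type u} [Group G] [Finite G]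

namespace Hyp

variable {T : Sylow 2 G} (h : Hyp T)
include h

/-- The hypothesis of this file. -/
def TI (h : Hyp T) : Prop := ∀ a ∈ h.A, a ≠ 1 → Cn a ≤ h.H

theorem ti_of_B (hB : ∀ b ∈ h.B, b ≠ 1 → Cn b ≤ h.H) : h.TI := by
  intro a ha ha1
  obtain ⟨j, m, hm, e⟩ := Nat.exists_eq_two_pow_mul_odd (n := orderOf a) (orderOf_pos a).ne'
  by_cases h1 : a ^ m = 1
  · exact hB a ⟨ha, hm.of_dvd_nat (orderOf_dvd_of_pow_eq_one h1)⟩ ha1
  · refine le_trans (fun x hx => mem_Cn.2 (Commute.pow_right (mem_Cn.1 hx : Commute x a) m).eq)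
      ((h.Cn_le_A (h.mem_T_of_pow (pow_mem ha _) (j := j) ?_) h1).trans h.A_le_H)
    rw [← pow_mul, mul_comm, ← e, pow_orderOf_eq_one]

variable (hTI : h.TI)
include hTI

/-- The intersection of `H` with its conjugate by `u`. -/
noncomputable abbrev Dd (h : Hyp T) (v : G) : Subgroup G := h.H ⊓ h.H.map (MulAut.conj v).toMonoidHom

theorem mem_Dd {v : G} (hv : orderOf v = 2) {d : G} : d ∈ h.Dd v ↔ d ∈ h.H ∧ v * d * v ∈ h.H := by
  rw [Subgroup.mem_inf, mem_conj_iff, inv_self hv]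

theorem odd_Dd {v : G} (hvH : v ∉ h.H) : Odd (Nat.card (h.Dd v)) := h.stronglyEmbedded.2.2 v hvH

theorem inter_triv {v : G} (hv : orderOf v = 2) (hvH : v ∉ h.H) {w : G} (hw : w ∈ h.A)
    (hw' : v * w * v ∈ h.A) : w = 1 := by
  by_contra h1
  have hz : v * h.z * v⁻¹ ∈ Cn w := by
    have e := mem_Cn.1 hw'
    rw [inv_self hv, mem_Cn]
    calc v * h.z * v * w = v * (h.z * (v * w * v)) * v := by
          rw [show v * (h.z * (v * w * v)) * v = v * h.z * v * w * (v * v) by group, mul_self hv, mul_one]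
      _ = v * (v * w * v * h.z) * v := by rw [e]
      _ = (v * v) * (w * (v * h.z * v)) := by group
      _ = w * (v * h.z * v) := by rw [mul_self hv, one_mul]
  exact hvH (h.mem_H_of_conj h.z_ord (self_mem_Cn _)
    (h.invol_mem_A ((order_conj _ _).trans h.z_ord) (hTI w hw h1 hz)))

theorem A_inter_Dd {v : G} (hv : orderOf v = 2) (hvH : v ∉ h.H) {c : G} (hc : c ∈ h.A)
    (hc' : c ∈ h.Dd v) : c = 1 := by
  have hvv := mul_self hv
  have hcH := ((h.mem_Dd hTI hv).1 hc').2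
  obtain ⟨c', hc'def⟩ : ∃ c', c' = v * c * v := ⟨_, rfl⟩
  rw [← hc'def] at hcH
  have hvc' : v * c' * v = c := by
    rw [hc'def, show v * (v * c * v) * v = (v * v) * c * (v * v) by group, hvv, one_mul, mul_one]
  have hco : Odd (orderOf c) := odd_of_mem (h.odd_Dd hTI hvH) hc'
  -- `c` and `c'` commute
  have hcomm : c * c' = c' * c := by
    have h1 : c * c' * c⁻¹ * c'⁻¹ ∈ h.A := by
      rw [show c * c' * c⁻¹ * c'⁻¹ = c * (c' * c⁻¹ * c'⁻¹) by group]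
      exact mul_mem hc ((Subgroup.mem_normalizer_iff.1 hcH _).1 (inv_mem hc))
    have h2 : v * (c * c' * c⁻¹ * c'⁻¹) * v ∈ h.A := by
      have e : v * (c * c' * c⁻¹ * c'⁻¹) * v = (c' * c * c'⁻¹) * c⁻¹ := by
        have hc'i : c'⁻¹ = v * c⁻¹ * v := by rw [hc'def]; simp only [mul_inv_rev, inv_self hv, mul_assoc]
        have hci : c⁻¹ = v * c'⁻¹ * v := by
          conv_lhs => rw [← hvc']
          simp only [mul_inv_rev, inv_self hv, mul_assoc]
        calc v * (c * c' * c⁻¹ * c'⁻¹) * v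
            = (v * c * v) * (v⁻¹ * c' * v) * (v⁻¹ * c⁻¹ * v) * (v⁻¹ * c'⁻¹ * v) := by group
          _ = c' * c * c'⁻¹ * c⁻¹ := by
              rw [inv_self hv, ← hc'def, hvc', ← hc'i, ← hci]
      rw [e]
      exact mul_mem ((Subgroup.mem_normalizer_iff.1 hcH _).1 hc) (inv_mem hc)
    have h3 := h.inter_triv hTI hv hvH h1 h2
    calc c * c' = c * c' * c⁻¹ * c'⁻¹ * (c' * c) := by group
      _ = c' * c := by rw [h3, one_mul]
  by_cases hd : c * c' = 1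
  · exact h.inter_triv hTI hv hvH hc (by rw [← hc'def, eq_inv_of_mul_eq_one_right hd]; exact inv_mem hc)
  obtain ⟨g, hg⟩ := h.isConj_z hv
  have hdu : c * c' ∈ Cn v := by
    rw [mem_Cn]
    calc c * c' * v = (v * v) * (c * c') * v := by rw [hvv, one_mul]
      _ = v * ((v * c * v) * (v⁻¹ * c' * v)) := by group
      _ = v * (c' * c) := by rw [inv_self hv, ← hc'def, hvc']
      _ = v * (c * c') := by rw [hcomm]
  have hgd : g⁻¹ * (c * c') * g ∈ h.A := by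
    rw [← conj_mem_Cn g, hg, show g * (g⁻¹ * (c * c') * g) * g⁻¹ = c * c' by group]; exact hdu
  have hgc : g⁻¹ * c * g ∈ h.H := hTI _ hgd
    (fun e => hd (conj_eq_one_iff.1 (show g⁻¹ * (c * c') * g⁻¹⁻¹ = 1 by rwa [inv_inv])))
    (mem_Cn.2 (by
      rw [show g⁻¹ * c * g * (g⁻¹ * (c * c') * g) = g⁻¹ * (c * (c * c')) * g by group,
        show g⁻¹ * (c * c') * g * (g⁻¹ * c * g) = g⁻¹ * (c * (c' * c)) * g by group, hcomm]))
  have hcv : c * v * c⁻¹ ∈ Cn v := by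
    have := (conj_mem_Cn (x := h.z) g).2 ((Subgroup.mem_normalizer_iff.1 hgc _).1 (self_mem_Cn h.z))
    rw [hg, show g * (g⁻¹ * c * g * h.z * (g⁻¹ * c * g)⁻¹) * g⁻¹ = c * (g * h.z * g⁻¹) * c⁻¹ by group,
      hg] at this
    exact this
  have hw : v * (c * v * c⁻¹) * v = c * v * c⁻¹ := by
    rw [← mem_Cn.1 hcv, mul_assoc, hvv, mul_one]
  -- `v c v c⁻¹` squares to one
  have hw2 : (c' * c⁻¹) * (c' * c⁻¹) = 1 := by
    have e1 : c' * c⁻¹ = v * (c * v * c⁻¹) := by rw [hc'def]; group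
    rw [e1, ← mul_assoc, hw, show c * v * c⁻¹ * (c * v * c⁻¹) = c * (v * v) * c⁻¹ by group, hvv,
      mul_one, mul_inv_cancel]
  have hwo : Odd (orderOf (c' * c⁻¹)) := odd_of_mem (h.odd_Dd hTI hvH)
    (mul_mem ((h.mem_Dd hTI hv).2 ⟨hcH, by rw [hvc']; exact h.A_le_H hc⟩) (inv_mem hc'))
  have := eq_one_of_odd_two_pow (j := 1) hwo (by rw [pow_one, pow_two, hw2])
  exact h.inter_triv hTI hv hvH hc (by rw [← hc'def, mul_inv_eq_one.1 this]; exact hc)

omit hTI in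
theorem smul_base {g : G} : g • ((1 : G) : G ⧸ h.H) = (g : G ⧸ h.H) := by
  rw [MulAction.Quotient.smul_mk, smul_eq_mul, mul_one]

omit hTI in
theorem fix_base {g : G} : g • ((1 : G) : G ⧸ h.H) = ((1 : G) : G ⧸ h.H) ↔ g ∈ h.H := by
  rw [h.smul_base, QuotientGroup.eq, mul_one, Subgroup.inv_mem_iff]

omit hTI in
/-- A swapping involution. -/
theorem exists_swapper {y : G ⧸ h.H} (hy : y ≠ ((1 : G) : G ⧸ h.H)) :
    ∃ v : G, orderOf v = 2 ∧ v ∉ h.H ∧ (v : G ⧸ h.H) = y := by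
  have hc := card_swapInv h.stronglyEmbedded hy.symm
  obtain ⟨⟨v, hv, hvy⟩⟩ : Nonempty (SwapInv ((1 : G) : G ⧸ h.H) y) := by
    refine (Nat.card_pos_iff.1 ?_).1
    rw [hc]
    have := h.three_le_k
    unfold Hyp.k at this
    omega
  exact ⟨v, hv, fun hvH => hy (hvy.symm.trans (h.fix_base.2 hvH)), by rw [← h.smul_base]; exact hvy⟩

omit hTI in
theorem mem_Dd_iff {v d : G} : d ∈ h.Dd v ↔
    d • ((1 : G) : G ⧸ h.H) = ((1 : G) : G ⧸ h.H) ∧ d • (v : G ⧸ h.H) = (v : G ⧸ h.H) := by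
  rw [h.fix_base, Subgroup.mem_inf, mem_conj_iff, MulAction.Quotient.smul_mk, smul_eq_mul, QuotientGroup.eq]
  refine and_congr_right fun _ => ⟨fun e => ?_, fun e => ?_⟩
  · rw [show (d * v)⁻¹ * v = (v⁻¹ * d * v)⁻¹ by group]; exact inv_mem e
  · rw [show v⁻¹ * d * v = ((d * v)⁻¹ * v)⁻¹ by group]; exact inv_mem e

/-- A non-trivial element of `A` fixes only one point. -/
theorem fix_A {a : G} (ha : a ∈ h.A) (ha1 : a ≠ 1) {y : G ⧸ h.H} (hy : a • y = y) :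
    y = ((1 : G) : G ⧸ h.H) := by
  by_contra hne
  obtain ⟨v, hv, hvH, rfl⟩ := h.exists_swapper hne
  exact ha1 (h.A_inter_Dd hTI hv hvH ha (h.mem_Dd_iff.2 ⟨h.fix_base.2 (h.A_le_H ha), hy⟩))

theorem card_Dd {v : G} (hv : orderOf v = 2) (hvH : v ∉ h.H) : Nat.card (h.Dd v) = h.k := by
  have e : h.A.comap (h.Dd v).subtype = ⊥ :=
    (Subgroup.eq_bot_iff_forall _).2 fun c hc => Subtype.ext (h.A_inter_Dd hTI hv hvH hc c.2)
  have hi : (h.A.comap (h.Dd v).subtype).index = h.k := by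
    refine index_comap_Cn _ h.z (fun t : {t : G // orderOf t = 2 ∧ t ∈ h.H} => t.1) Subtype.val_injective fun t => ?_
    constructor
    · rintro ⟨⟨t, ht, htH⟩, rfl⟩
      obtain ⟨⟨d, hd, e⟩, -⟩ := S1225.result h.H h.stronglyEmbedded v hv hvH h.z t h.z_ord
        (h.A_le_H (self_mem_Cn _)) ht htH
      exact ⟨⟨d, hd⟩, e⟩
    · rintro ⟨p, rfl⟩
      exact ⟨⟨_, (order_conj _ _).trans h.z_ord,
        mul_mem (mul_mem p.2.1 (h.A_le_H (self_mem_Cn _))) (inv_mem p.2.1)⟩, rfl⟩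
  rwa [e, Subgroup.index_bot] at hi

theorem invert_Dd {v : G} (hv : orderOf v = 2) (hvH : v ∉ h.H) {d : G} (hd : d ∈ h.Dd v) :
    v * d * v = d⁻¹ := by
  have hne : ((1 : G) : G ⧸ h.H) ≠ (v : G ⧸ h.H) := fun e => hvH (by
    have := QuotientGroup.eq.1 e
    simpa using this)
  have hswap : ∀ w : SwapInv ((1 : G) : G ⧸ h.H) (v : G ⧸ h.H), v * w.1 ∈ h.Dd v := by
    intro w
    have hwv : w.1 • (v : G ⧸ h.H) = ((1 : G) : G ⧸ h.H) := by
      calc w.1 • (v : G ⧸ h.H) = w.1 • (w.1 • ((1 : G) : G ⧸ h.H)) := congrArg (w.1 • ·) w.2.2.symm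
        _ = ((1 : G) : G ⧸ h.H) := by rw [← mul_smul, mul_self w.2.1, one_smul]
    have hv1 : v • (v : G ⧸ h.H) = ((1 : G) : G ⧸ h.H) := by
      rw [MulAction.Quotient.smul_mk, smul_eq_mul, mul_self hv]
    exact h.mem_Dd_iff.2 ⟨by rw [mul_smul, w.2.2, hv1], by rw [mul_smul, hwv, h.smul_base]⟩
  obtain ⟨w, hw⟩ := ((Nat.bijective_iff_injective_and_card
    (fun w : SwapInv ((1 : G) : G ⧸ h.H) (v : G ⧸ h.H) => (⟨v * w.1, hswap w⟩ : h.Dd v))).2
    ⟨fun a b e => Subtype.ext (mul_left_cancel (congrArg Subtype.val e)),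
      by rw [h.card_Dd hTI hv hvH, card_swapInv h.stronglyEmbedded hne]; rfl⟩).2 ⟨d, hd⟩
  have hw' : v * w.1 = d := congrArg Subtype.val hw
  rw [← hw', show v * (v * w.1) * v = (v * v) * (w.1 * v) by group, mul_self hv, one_mul, mul_inv_rev,
    inv_self hv, inv_self w.2.1]

theorem comm_Dd {v : G} (hv : orderOf v = 2) (hvH : v ∉ h.H) {c d : G} (hc : c ∈ h.Dd v) (hd : d ∈ h.Dd v) :
    c * d = d * c := by
  refine inv_injective ?_
  rw [← h.invert_Dd hTI hv hvH (mul_mem hc hd), mul_inv_rev, ← h.invert_Dd hTI hv hvH hc,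
    ← h.invert_Dd hTI hv hvH hd, show v * c * v * (v * d * v) = v * c * (v * v) * d * v by group,
    mul_self hv, mul_one]
  group

variable {v : G} (hv : orderOf v = 2) (hvH : v ∉ h.H) {j : G} (hj : j ∈ h.Dd v) (hj1 : j ≠ 1)
include hv hvH hj hj1

theorem odd_Cn : Odd (Nat.card (Cn j)) := by
  rw [← Nat.not_even_iff_odd]
  intro he
  obtain ⟨t, htj, ht⟩ := exists_invol he
  obtain ⟨g, hg⟩ := h.isConj_z ht
  have hgj : g⁻¹ * j * g ∈ h.A := by
    rw [← conj_mem_Cn g, hg, show g * (g⁻¹ * j * g) * g⁻¹ = j by group]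
    exact mem_Cn.2 (mem_Cn.1 htj).symm
  have hne : g⁻¹ * j * g ≠ 1 := fun e => hj1 (conj_eq_one_iff.1 (show g⁻¹ * j * g⁻¹⁻¹ = 1 by rwa [inv_inv]))
  have key : ∀ c : G ⧸ h.H, j • c = c → g⁻¹ • c = ((1 : G) : G ⧸ h.H) := fun c hc =>
    h.fix_A hTI hgj hne (by rw [mul_smul, mul_smul, smul_inv_smul, hc])
  obtain ⟨h1, h2⟩ := h.mem_Dd_iff.1 hj
  refine hvH ?_
  have := smul_left_cancel g⁻¹ ((key _ h1).trans (key _ h2).symm)
  rw [QuotientGroup.eq] at this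
  simpa using this

theorem fpf {c : G} (hc : c ∈ Cn j) (hcv : v * c * v = c) : c = 1 := by
  by_contra hc1
  obtain ⟨g, hg⟩ := h.isConj_z hv
  have hcv' : c ∈ Cn v := mem_Cn.2 (by
    calc c * v = v * c * v * v := by rw [hcv]
      _ = v * c := by rw [mul_assoc, mul_self hv, mul_one])
  have hgc : g⁻¹ * c * g ∈ h.A := by
    rw [← conj_mem_Cn g, hg, show g * (g⁻¹ * c * g) * g⁻¹ = c by group]; exact hcv'
  have hgj : g⁻¹ * j * g ∈ h.H := hTI _ hgc
    (fun e => hc1 (conj_eq_one_iff.1 (show g⁻¹ * c * g⁻¹⁻¹ = 1 by rwa [inv_inv])))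
    (mem_Cn.2 (by
      rw [show g⁻¹ * j * g * (g⁻¹ * c * g) = g⁻¹ * (j * c) * g by group,
        show g⁻¹ * c * g * (g⁻¹ * j * g) = g⁻¹ * (c * j) * g by group, mem_Cn.1 hc]))
  have hjv : j * v * j⁻¹ ∈ Cn v := by
    have := (conj_mem_Cn (x := h.z) g).2 ((Subgroup.mem_normalizer_iff.1 hgj _).1 (self_mem_Cn h.z))
    rwa [hg, show g * (g⁻¹ * j * g * h.z * (g⁻¹ * j * g)⁻¹) * g⁻¹ = j * (g * h.z * g⁻¹) * j⁻¹ by group,
      hg] at this
  have hinv := h.invert_Dd hTI hv hvH hj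
  have e : j * v = v * j⁻¹ := by
    rw [← hinv, show v * (v * j * v) = (v * v) * (j * v) by group, mul_self hv, one_mul]
  have hj2 : v * (j⁻¹ * j⁻¹) * v = j⁻¹ * j⁻¹ := by
    have h1 := mem_Cn.1 hjv
    rw [e, mul_assoc v j⁻¹ j⁻¹] at h1
    rw [h1, show v * (v * (j⁻¹ * j⁻¹)) = (v * v) * (j⁻¹ * j⁻¹) by group, mul_self hv, one_mul]
  have hinv2 := h.invert_Dd hTI hv hvH (mul_mem (inv_mem hj) (inv_mem hj))
  rw [hj2, mul_inv_rev, inv_inv] at hinv2
  refine hj1 (eq_one_of_odd_two_pow (j := 2) (odd_of_mem (h.odd_Dd hTI hvH) hj) ?_)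
  calc j ^ 2 ^ 2 = j * j * (j * j) := by rw [show (2 : ℕ) ^ 2 = 2 + 2 by norm_num, pow_add, pow_two]
    _ = j⁻¹ * j⁻¹ * (j * j) := by rw [hinv2]
    _ = 1 := by group

theorem invert_Cn {c : G} (hc : c ∈ Cn j) : v * c * v = c⁻¹ := by
  have hinv := h.invert_Dd hTI hv hvH hj
  have hmem : ∀ x ∈ Cn j, v * x * v ∈ Cn j := by
    intro x hx
    have := (conj_mem_Cn (x := j⁻¹) v).2 (mem_Cn.2 (Commute.inv_right (mem_Cn.1 hx : Commute x j)).eq)
    rw [inv_self hv] at this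
    rwa [show v * j⁻¹ * v = j by rw [← hinv, show v * (v * j * v) * v = (v * v) * j * (v * v) by group,
      mul_self hv, one_mul, mul_one]] at this
  let ψ : Cn j →* Cn j := MonoidHom.mk' (fun x => ⟨v * x * v, hmem x x.2⟩) fun x y => Subtype.ext (by
    show v * ((x : G) * y) * v = v * x * v * (v * y * v)
    rw [show v * (x : G) * v * (v * y * v) = v * x * (v * v) * y * v by group, mul_self hv]; group)
  have hfix : MonoidHom.FixedPointFree ψ := fun x hx =>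
    Subtype.ext (h.fpf hTI hv hvH hj hj1 x.2 (congrArg Subtype.val hx))
  have hinvol : Function.Involutive ψ := fun x => Subtype.ext (by
    show v * (v * x * v) * v = x
    rw [show v * (v * (x : G) * v) * v = (v * v) * x * (v * v) by group, mul_self hv, one_mul, mul_one])
  exact congrArg Subtype.val (congrFun (hfix.coe_eq_inv_of_involutive hinvol) ⟨c, hc⟩)

theorem Cn_inf_H {c : G} (hc : c ∈ Cn j) (hcH : c ∈ h.H) : c ∈ h.Dd v :=
  (h.mem_Dd hTI hv).2 ⟨hcH, by rw [h.invert_Cn hTI hv hvH hj hj1 hc]; exact inv_mem hcH⟩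

omit hj hj1

/-- Every element of `H` outside `A` is conjugate into `D`. -/
theorem cover {x : G} (hx : x ∈ h.H) (hxA : x ∉ h.A) :
    ∃ a ∈ h.A, ∃ d ∈ h.Dd v, a * d * a⁻¹ = x := by
  classical
  have hk := h.three_le_k
  haveI := Fintype.ofFinite G
  let f : ↥h.A × {d : h.Dd v // d ≠ 1} → {x : h.H // (x : G) ∉ h.A} := fun p =>
    ⟨⟨(p.1 : G) * (p.2.1 : G) * (p.1 : G)⁻¹,
      mul_mem (mul_mem (h.A_le_H p.1.2) p.2.1.2.1) (inv_mem (h.A_le_H p.1.2))⟩, fun e => p.2.2 (Subtype.ext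
      (h.A_inter_Dd hTI hv hvH (by
        have := mul_mem (mul_mem (inv_mem p.1.2) e) p.1.2
        rwa [show (p.1 : G)⁻¹ * ((p.1 : G) * (p.2.1 : G) * (p.1 : G)⁻¹) * (p.1 : G) = (p.2.1 : G) by group]
          at this) p.2.1.2))⟩
  have hinj : Function.Injective f := by
    rintro ⟨a, d⟩ ⟨a', d'⟩ e
    have e' : (a : G) * (d.1 : G) * (a : G)⁻¹ = (a' : G) * (d'.1 : G) * (a' : G)⁻¹ :=
      congrArg (fun y : {x : h.H // (x : G) ∉ h.A} => ((y : h.H) : G)) e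
    obtain ⟨b, hb⟩ : ∃ b, b = (a' : G)⁻¹ * a := ⟨_, rfl⟩
    have hbA : b ∈ h.A := hb ▸ mul_mem (inv_mem a'.2) a.2
    have e2 : b * (d.1 : G) * b⁻¹ = d'.1 := by
      rw [hb, show (a' : G)⁻¹ * a * (d.1 : G) * ((a' : G)⁻¹ * a)⁻¹ =
        (a' : G)⁻¹ * ((a : G) * (d.1 : G) * (a : G)⁻¹) * a' by group, e']
      group
    have e3 : (d'.1 : G) * (d.1 : G)⁻¹ = 1 := by
      refine h.A_inter_Dd hTI hv hvH ?_ (mul_mem d'.1.2 (inv_mem d.1.2))
      rw [← e2, show b * (d.1 : G) * b⁻¹ * (d.1 : G)⁻¹ = b * ((d.1 : G) * b⁻¹ * (d.1 : G)⁻¹) by group]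
      exact mul_mem hbA ((Subgroup.mem_normalizer_iff.1 d.1.2.1 _).1 (inv_mem hbA))
    have hdd : (d'.1 : G) = d.1 := mul_inv_eq_one.1 e3
    have hbd : b ∈ Cn (d.1 : G) := mem_Cn.2 (by rw [← mul_inv_eq_iff_eq_mul, e2, hdd])
    have hb1 : b = 1 := h.A_inter_Dd hTI hv hvH hbA
      (h.Cn_inf_H hTI hv hvH d.1.2 (fun e => d.2 (Subtype.ext e)) hbd (h.A_le_H hbA))
    rw [hb] at hb1
    exact Prod.ext (Subtype.ext (inv_mul_eq_one.1 hb1).symm) (Subtype.ext (Subtype.ext hdd.symm))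
  have hcard : Nat.card (↥h.A × {d : h.Dd v // d ≠ 1}) = Nat.card {x : h.H // (x : G) ∉ h.A} := by
    have e2 : Fintype.card {x : h.H // (x : G) ∈ h.A} = Fintype.card h.A := Fintype.card_congr
      ⟨fun x => ⟨x.1.1, x.2⟩, fun a => ⟨⟨a.1, h.A_le_H a.2⟩, a.2⟩, fun x => rfl, fun x => rfl⟩
    rw [Nat.card_prod, Nat.card_eq_fintype_card (α := {d : h.Dd v // d ≠ 1}),
      Nat.card_eq_fintype_card (α := {x : h.H // (x : G) ∉ h.A}), Fintype.card_subtype_compl,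
      Fintype.card_subtype_compl, Fintype.card_subtype_eq, e2,
      ← Nat.card_eq_fintype_card, ← Nat.card_eq_fintype_card, ← Nat.card_eq_fintype_card,
      h.card_Dd hTI hv hvH, h.card_H, Nat.mul_sub_one]
  obtain ⟨⟨a, d⟩, hp⟩ := ((Nat.bijective_iff_injective_and_card f).2 ⟨hinj, hcard⟩).2 ⟨⟨x, hx⟩, hxA⟩
  exact ⟨a, a.2, d.1, d.1.2, congrArg (fun y : {x : h.H // (x : G) ∉ h.A} => ((y : h.H) : G)) hp⟩

/-- Every other point is moved by `A` to a fixed point of `D`. -/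
theorem exists_move {y : G ⧸ h.H} (hy : y ≠ ((1 : G) : G ⧸ h.H)) :
    ∃ a ∈ h.A, ∀ d ∈ h.Dd v, d • (a⁻¹ • y) = a⁻¹ • y := by
  have hk := h.three_le_k
  obtain ⟨w, hw, hwH, rfl⟩ := h.exists_swapper hy
  obtain ⟨⟨e, he⟩, he1⟩ : ∃ e : h.Dd w, e ≠ 1 := by
    haveI : Nontrivial (h.Dd w) := Finite.one_lt_card_iff_nontrivial.1 (by rw [h.card_Dd hTI hw hwH]; omega)
    exact exists_ne 1
  have he1' : e ≠ 1 := fun e' => he1 (Subtype.ext e')
  obtain ⟨a, ha, d, hd, hade⟩ := h.cover hTI hv hvH he.1 fun eA => he1' (h.A_inter_Dd hTI hw hwH eA he)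
  have hd1 : d ≠ 1 := fun e' => he1' (by rw [← hade, e', mul_one, mul_inv_cancel])
  refine ⟨a, ha, ?_⟩
  have hsub : (h.Dd w).map (MulAut.conj a⁻¹).toMonoidHom ≤ h.Dd v := by
    rintro _ ⟨c, hc, rfl⟩
    show a⁻¹ * c * a⁻¹⁻¹ ∈ h.Dd v
    rw [inv_inv]
    refine h.Cn_inf_H hTI hv hvH hd hd1 (mem_Cn.2 ?_)
      (mul_mem (mul_mem (inv_mem (h.A_le_H ha)) hc.1) (h.A_le_H ha))
    have hcm := h.comm_Dd hTI hw hwH hc he
    rw [← hade] at hcm
    calc a⁻¹ * c * a * d = a⁻¹ * (c * (a * d * a⁻¹)) * a := by group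
      _ = a⁻¹ * (a * d * a⁻¹ * c) * a := by rw [hcm]
      _ = d * (a⁻¹ * c * a) := by group
  have heq := Subgroup.eq_of_le_of_card_ge hsub (le_of_eq (by
    rw [Subgroup.card_map_of_injective (MulEquiv.injective _), h.card_Dd hTI hv hvH, h.card_Dd hTI hw hwH]))
  intro d' hd'
  rw [← heq] at hd'
  obtain ⟨c, hc, rfl⟩ := hd'
  show (a⁻¹ * c * a⁻¹⁻¹) • (a⁻¹ • (w : G ⧸ h.H)) = a⁻¹ • (w : G ⧸ h.H)
  rw [mul_smul, inv_inv, smul_inv_smul, mul_smul, (h.mem_Dd_iff.1 hc).2]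

/-- `D` fixes only two points. -/
theorem fix_Dd {c : G ⧸ h.H} (hc : ∀ d ∈ h.Dd v, d • c = c) :
    c = ((1 : G) : G ⧸ h.H) ∨ c = (v : G ⧸ h.H) := by
  set x₀ : G ⧸ h.H := ((1 : G) : G ⧸ h.H) with hx₀
  set y₀ : G ⧸ h.H := (v : G ⧸ h.H) with hy₀
  have hk := h.three_le_k
  obtain ⟨⟨j, hj⟩, hj1⟩ : ∃ j : h.Dd v, j ≠ 1 := by
    haveI : Nontrivial (h.Dd v) := Finite.one_lt_card_iff_nontrivial.1 (by rw [h.card_Dd hTI hv hvH]; omega)
    exact exists_ne 1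
  have hj1' : j ≠ 1 := fun e => hj1 (Subtype.ext e)
  by_contra hcon
  push Not at hcon
  obtain ⟨hcx, hcy⟩ := hcon
  have hxy : x₀ ≠ y₀ := fun e => hvH (by
    have := QuotientGroup.eq.1 e
    simpa using this)
  let Fix : G ⧸ h.H → Prop := fun p => ∀ d ∈ h.Dd v, d • p = p
  have hFx : Fix x₀ := fun d hd => (h.mem_Dd_iff.1 hd).1
  have hFy : Fix y₀ := fun d hd => (h.mem_Dd_iff.1 hd).2
  have hvx : v • x₀ = y₀ := h.smul_base
  have hvy : v • y₀ = x₀ := by rw [← hvx, ← mul_smul, mul_self hv, one_smul]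
  have hFv : ∀ p, Fix p → Fix (v • p) := fun p hp d hd => by
    have : d * v = v * d⁻¹ := by
      rw [← h.invert_Dd hTI hv hvH hd, show v * (v * d * v) = (v * v) * (d * v) by group, mul_self hv, one_mul]
    rw [← mul_smul, this, mul_smul, hp _ (inv_mem hd)]
  -- swappers inside the fixed point set invert `D`
  have hswap : ∀ p q, Fix p → Fix q → p ≠ q → ∃ w : G, w • p = q ∧ ∀ d ∈ h.Dd v, w * d * w⁻¹ = d⁻¹ := by
    intro p q hp hq hpq
    induction p using QuotientGroup.induction_on with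
    | _ g =>
      have hq' : g⁻¹ • q ≠ x₀ := fun e => hpq (by rw [← h.smul_base, ← hx₀, ← e, smul_inv_smul])
      obtain ⟨w, hw, hwH, hwq⟩ := h.exists_swapper hq'
      refine ⟨g * w * g⁻¹, ?_, fun d hd => ?_⟩
      · rw [mul_smul, mul_smul, ← h.smul_base (g := g), inv_smul_smul, h.smul_base, hwq, smul_inv_smul]
      · have hdw : g⁻¹ * d * g ∈ h.Dd w := h.mem_Dd_iff.2
          ⟨by rw [mul_smul, mul_smul, h.smul_base, hp d hd, ← h.smul_base (g := g), inv_smul_smul],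
            by rw [hwq, mul_smul, mul_smul, smul_inv_smul, hq d hd]⟩
        have e := h.invert_Dd hTI hw hwH hdw
        rw [show g * w * g⁻¹ * d * (g * w * g⁻¹)⁻¹ = g * (w * (g⁻¹ * d * g) * w⁻¹) * g⁻¹ by group,
          inv_self hw, e]
        group
  -- products of two inverting elements centralize `D`
  have hprod : ∀ w : G, (∀ d ∈ h.Dd v, w * d * w⁻¹ = d⁻¹) → v * w ∈ Cn j := by
    intro w hw
    have e := hw j hj
    refine mem_Cn.2 (mul_inv_eq_iff_eq_mul.1 ?_)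
    rw [show v * w * j * (v * w)⁻¹ = v * (w * j * w⁻¹) * v⁻¹ by group, e, inv_self hv,
      h.invert_Dd hTI hv hvH (inv_mem hj), inv_inv]
  have hFvc : Fix (v • c) := hFv c hc
  obtain ⟨w₁, hw₁, hw₁'⟩ := hswap x₀ (v • c) hFx hFvc fun e => hcy (by
    rw [← hvx, e, ← mul_smul, mul_self hv, one_smul])
  obtain ⟨w₂, hw₂, hw₂'⟩ := hswap y₀ (v • c) hFy hFvc fun e => hcx (by
    rw [← hvy, e, ← mul_smul, mul_self hv, one_smul])
  obtain ⟨b, hbdef⟩ : ∃ b, b = (v * w₂)⁻¹ * (v * w₁) := ⟨_, rfl⟩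
  have hb : b ∈ Cn j := hbdef ▸ mul_mem (inv_mem (hprod w₂ hw₂')) (hprod w₁ hw₁')
  have hbx : b • x₀ = y₀ := by
    rw [hbdef, mul_smul, inv_smul_eq_iff, mul_smul, mul_smul, hw₁, hw₂]
  have hbinv := h.invert_Cn hTI hv hvH hj hj1' hb
  have hi2 : v * b * (v * b) = 1 := by rw [← mul_assoc, hbinv, inv_mul_cancel]
  have hi1 : v * b ≠ 1 := fun e => by
    have hvb : b = v := (mul_eq_one_iff_inv_eq.1 e).symm.trans (inv_self hv)
    exact ne_one hv (eq_one_of_odd_two_pow (j := 1) (odd_of_mem (h.odd_Cn hTI hv hvH hj hj1') (hvb ▸ hb))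
      (by rw [pow_one, ← hv, pow_orderOf_eq_one]))
  have hiH : v * b ∈ h.H := h.fix_base.1 (by rw [← hx₀, mul_smul, hbx, hvy])
  have hiA : v * b ∈ h.A := h.invol_mem_A (order_two_of_sq hi2 hi1) hiH
  have hinvj : v * b * j * (v * b)⁻¹ = j⁻¹ := by
    rw [show v * b * j * (v * b)⁻¹ = v * (b * j * b⁻¹) * v⁻¹ by group, mem_Cn.1 hb, mul_inv_cancel_right,
      inv_self hv, h.invert_Dd hTI hv hvH hj]
  have hjj : (j⁻¹ * j⁻¹) ∈ h.A := by
    rw [show j⁻¹ * j⁻¹ = v * b * (j * (v * b)⁻¹ * j⁻¹) by rw [← mul_assoc, ← mul_assoc, hinvj]]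
    exact mul_mem hiA ((Subgroup.mem_normalizer_iff.1 hj.1 _).1 (inv_mem hiA))
  have := h.A_inter_Dd hTI hv hvH hjj (mul_mem (inv_mem hj) (inv_mem hj))
  refine hj1' (eq_one_of_odd_two_pow (j := 1) (odd_of_mem (h.odd_Dd hTI hvH) hj) ?_)
  rw [pow_one, pow_two, ← inv_eq_one, mul_inv_rev, this]

omit hv hvH

/-- Case II: the simple group is `PSL(2, 2^n)`. -/
theorem psl_of_TI [IsSimpleGroup G] :
    ∃ (F : Type) (_ : Field F) (_ : Fintype F), Fintype.card F = Nat.card T ∧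
      Nonempty (G ≃* Matrix.ProjectiveSpecialLinearGroup (Fin 2) F) := by
  classical
  obtain ⟨v, hv, hvH⟩ := h.exists_invol_not_mem
  set x₀ : G ⧸ h.H := ((1 : G) : G ⧸ h.H) with hx₀
  set y₀ : G ⧸ h.H := (v : G ⧸ h.H) with hy₀
  have hyx : y₀ ≠ x₀ := fun e => hvH (by
    have := QuotientGroup.eq.1 e.symm
    simpa using this)
  have hk := h.three_le_k
  have hfixH : ∀ a ∈ h.H, a • x₀ = x₀ := fun a ha => h.fix_base.2 ha
  have hne : ∀ a ∈ h.H, ∀ c, c ≠ x₀ → a • c ≠ x₀ := fun a ha c hc e => hc (by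
    rwa [← hfixH a ha, smul_left_cancel_iff] at e)
  -- `A` is transitive on the other points
  have htrA : ∀ y, y ≠ x₀ → ∃ a ∈ h.A, a • y₀ = y := by
    intro y hy
    obtain ⟨a, ha, hfix⟩ := h.exists_move hTI hv hvH hy
    rcases h.fix_Dd hTI hv hvH hfix with e | e
    · exact absurd e (hne _ (inv_mem (h.A_le_H ha)) _ hy)
    · exact ⟨a, ha, by rw [hy₀, ← e, smul_inv_smul]⟩
  have hfree : ∀ a ∈ h.A, ∀ c, c ≠ x₀ → a • c = c → a = 1 := fun a ha c hc e => by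
    by_contra ha1
    exact hc (h.fix_A hTI ha ha1 e)
  -- three points
  have hthree : ∀ g : G, ∀ b c : G ⧸ h.H, b ≠ x₀ → c ≠ x₀ → b ≠ c →
      g • x₀ = x₀ → g • b = b → g • c = c → g = 1 := by
    intro g b c hb hc hbc h1 h2 h3
    obtain ⟨a, ha, rfl⟩ := htrA b hb
    obtain ⟨a', ha', rfl⟩ := htrA c hc
    obtain ⟨g', hg'def⟩ : ∃ g', g' = a⁻¹ * g * a := ⟨_, rfl⟩
    have hg'x : g' • x₀ = x₀ := by
      rw [hg'def, mul_smul, mul_smul, hfixH a (h.A_le_H ha), h1, hfixH _ (inv_mem (h.A_le_H ha))]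
    have hg'y : g' • y₀ = y₀ := by rw [hg'def, mul_smul, mul_smul, h2, inv_smul_smul]
    have hg'D : g' ∈ h.Dd v := h.mem_Dd_iff.2 ⟨hg'x, hg'y⟩
    by_contra hg1
    have hg'1 : g' ≠ 1 := fun e => hg1 (conj_eq_one_iff.1 (show a⁻¹ * g * a⁻¹⁻¹ = 1 by rw [inv_inv, ← hg'def, e]))
    obtain ⟨t, htdef⟩ : ∃ t, t = a⁻¹ * a' := ⟨_, rfl⟩
    have htA : t ∈ h.A := htdef ▸ mul_mem (inv_mem ha) ha'
    have ht3 : g' • (t • y₀) = t • y₀ := by
      rw [htdef, hg'def, mul_smul a⁻¹ a', mul_smul, mul_smul, smul_inv_smul, h3]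
    have hgi : g'⁻¹ • y₀ = y₀ := by rw [inv_smul_eq_iff, hg'y]
    have hcc : g' * t * g'⁻¹ ∈ h.A := (Subgroup.mem_normalizer_iff.1 hg'D.1 _).1 htA
    have e : (t⁻¹ * (g' * t * g'⁻¹)) • y₀ = y₀ := by
      rw [mul_smul, mul_smul, mul_smul, hgi, ht3, inv_smul_smul]
    have e2 := inv_mul_eq_one.1 (hfree _ (mul_mem (inv_mem htA) hcc) _ hyx e)
    have htC : t ∈ Cn g' := mem_Cn.2 (mul_inv_eq_iff_eq_mul.1 e2.symm).symm
    have ht1 := h.A_inter_Dd hTI hv hvH htA (h.Cn_inf_H hTI hv hvH hg'D hg'1 htC (h.A_le_H htA))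
    exact hbc (by rw [(inv_mul_eq_one.1 (htdef.symm.trans ht1) : a = a')])
  have hmove : ∀ p : G ⧸ h.H, ∃ g : G, g • p = x₀ := fun p => by
    obtain ⟨g, rfl⟩ := QuotientGroup.mk_surjective p
    exact ⟨g⁻¹, by rw [← h.smul_base, inv_smul_smul]⟩
  obtain ⟨⟨d₀, hd₀⟩, hd₀1⟩ : ∃ d : h.Dd v, d ≠ 1 := by
    haveI : Nontrivial (h.Dd v) := Finite.one_lt_card_iff_nontrivial.1 (by rw [h.card_Dd hTI hv hvH]; omega)
    exact exists_ne 1
  have hzg : Cfsg.IsZassenhausGroup G (G ⧸ h.H) := by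
    refine ⟨⟨fun {g g'} e => ?_⟩, MulAction.is_two_pretransitive_iff.2 ?_, ?_,
      ⟨d₀, fun e => hd₀1 (Subtype.ext e), x₀, y₀, hyx.symm, (h.mem_Dd_iff.1 hd₀).1, (h.mem_Dd_iff.1 hd₀).2⟩, ?_⟩
    · refine (inv_mul_eq_one.1 ?_).symm
      have hmem : g'⁻¹ * g ∈ h.H.normalCore := by
        rw [Subgroup.normalCore_eq_ker, MonoidHom.mem_ker]
        exact Equiv.ext fun c => by
          show (g'⁻¹ * g) • c = c
          rw [mul_smul, e, inv_smul_smul]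
      rcases IsSimpleGroup.eq_bot_or_eq_top_of_normal h.H.normalCore inferInstance with e' | e'
      · rwa [e', Subgroup.mem_bot] at hmem
      · exact absurd (top_le_iff.1 (e' ▸ h.H.normalCore_le)) h.H_ne_top
    · intro a b c d hab hcd
      obtain ⟨g₁, hg₁⟩ := hmove a
      obtain ⟨g₂, hg₂⟩ := hmove c
      obtain ⟨a₁, ha₁, e₁⟩ := htrA (g₁ • b) fun e => hab (smul_left_cancel g₁ (hg₁.trans e.symm))
      obtain ⟨a₂, ha₂, e₂⟩ := htrA (g₂ • d) fun e => hcd (smul_left_cancel g₂ (hg₂.trans e.symm))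
      refine ⟨g₂⁻¹ * a₂ * a₁⁻¹ * g₁, ?_, ?_⟩
      · rw [mul_smul, hg₁, mul_smul, hfixH _ (inv_mem (h.A_le_H ha₁)), mul_smul,
          hfixH _ (h.A_le_H ha₂), inv_smul_eq_iff, hg₂]
      · rw [mul_smul, ← e₁, mul_smul, inv_smul_smul, mul_smul, e₂, inv_smul_smul]
    · intro g a b c hab hbc hac h1 h2 h3
      obtain ⟨g₁, hg₁⟩ := hmove a
      have hc : ∀ p : G ⧸ h.H, g • p = p → (g₁ * g * g₁⁻¹) • (g₁ • p) = g₁ • p := fun p hp => by
        rw [mul_smul, inv_smul_smul, mul_smul, hp]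
      have := hthree (g₁ * g * g₁⁻¹) (g₁ • b) (g₁ • c)
        (fun e => hab (smul_left_cancel g₁ (hg₁.trans e.symm)))
        (fun e => hac (smul_left_cancel g₁ (hg₁.trans e.symm))) (fun e => hbc (smul_left_cancel g₁ e))
        (by rw [← hg₁]; exact hc a h1) (hc b h2) (hc c h3)
      exact conj_eq_one_iff.1 this
    · intro N hN htr
      refine ⟨x₀, fun e => ?_⟩
      rcases IsSimpleGroup.eq_bot_or_eq_top_of_normal N hN with rfl | rfl
      · obtain ⟨⟨m, hm⟩, hm'⟩ := htr.exists_smul_eq x₀ y₀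
        rw [Subgroup.mem_bot] at hm
        subst hm
        exact hyx (hm'.symm.trans (one_smul G x₀))
      · have h1 : (⟨h.z, trivial⟩ : (⊤ : Subgroup G)) ∈ stabilizer (⊤ : Subgroup G) x₀ :=
          mem_stabilizer_iff.2 (hfixH _ (h.A_le_H (self_mem_Cn _)))
        exact ne_one h.z_ord (congrArg Subtype.val ((Subgroup.eq_bot_iff_forall _).1 e _ h1))
  haveI := Fintype.ofFinite (G ⧸ h.H)
  have hA : ZassAb.Ab x₀ y₀ h.A :=
    { zg := hzg
      ne := hyx.symm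
      le := fun a ha => mem_stabilizer_iff.2 (hfixH a (h.A_le_H ha))
      normal := fun g hg a ha => (Subgroup.mem_normalizer_iff.1 (h.fix_base.1 hg) a).1 ha
      comm := fun a ha b hb => h.comm_A ha hb
      reg := fun p q hp hq => by
        obtain ⟨a, ha, e⟩ := htrA p hp
        obtain ⟨b, hb, e'⟩ := htrA q hq
        refine ⟨⟨b * a⁻¹, mul_mem hb (inv_mem ha)⟩, ?_, fun c hc => Subtype.ext ?_⟩
        · show (b * a⁻¹) • p = q
          rw [← e, ← e', mul_smul, inv_smul_smul]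
        have hc' : (c : G) • p = q := hc
        refine (inv_mul_eq_one.1 (hfree ((c : G)⁻¹ * (b * a⁻¹)) (mul_mem (inv_mem c.2) (mul_mem hb (inv_mem ha))) p hp ?_))
        rw [mul_smul, inv_smul_eq_iff, hc', ← e, ← e', mul_smul, inv_smul_smul] }
  have htwo : Nat.card (Zass.two (G := G) x₀ y₀) = h.k := by
    rw [← h.card_Dd hTI hv hvH]
    exact Nat.card_congr (Equiv.subtypeEquivRight fun g =>
      (Subgroup.mem_inf.trans (and_congr mem_stabilizer_iff mem_stabilizer_iff)).trans h.mem_Dd_iff.symm)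
  rcases hA.dichotomy with hd | ⟨hd, -⟩
  · rw [htwo] at hd
    haveI := Fintype.ofFinite h.A
    have hel : ∀ a ∈ h.A, a ≠ 1 → orderOf a = 2 := by
      intro a ha ha1
      let f : {t : G // orderOf t = 2 ∧ t ∈ h.H} → {a : h.A // a ≠ 1} := fun t =>
        ⟨⟨t.1, h.invol_mem_A t.2.1 t.2.2⟩, fun e => ne_one t.2.1 (congrArg Subtype.val e)⟩
      have hc : Nat.card {t : G // orderOf t = 2 ∧ t ∈ h.H} = Nat.card {a : h.A // a ≠ 1} := by
        rw [show Nat.card {t : G // orderOf t = 2 ∧ t ∈ h.H} = h.k from rfl, hd,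
          Nat.card_eq_fintype_card (α := {a : h.A // a ≠ 1}),
          Fintype.card_subtype_compl, Fintype.card_subtype_eq, Nat.card_eq_fintype_card]
      obtain ⟨t, ht⟩ := ((Nat.bijective_iff_injective_and_card f).2
        ⟨fun s t e => Subtype.ext (congrArg (fun y : {a : h.A // a ≠ 1} => ((y : h.A) : G)) e), hc⟩).2
        ⟨⟨a, ha⟩, fun e => ha1 (congrArg Subtype.val e)⟩
      have e : t.1 = a := congrArg (fun y : {a : h.A // a ≠ 1} => ((y : h.A) : G)) ht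
      rw [← e]
      exact t.2.1
    refine S1230.key (⟨h.noncyc, h.nonnormal, fun t ht => ⟨h.ac t ht, fun c hc => ?_⟩⟩ : ElemCase T)
    obtain ⟨g, rfl⟩ := h.isConj_z ht
    have hc' : g⁻¹ * c * g ∈ h.A := by
      rw [← conj_mem_Cn g, show g * (g⁻¹ * c * g) * g⁻¹ = c by group]; exact hc
    by_cases h1 : g⁻¹ * c * g = 1
    · rw [conj_eq_one_iff.1 (show g⁻¹ * c * g⁻¹⁻¹ = 1 by rwa [inv_inv]), one_pow]
    · have := hel _ hc' h1
      rw [show g⁻¹ * c * g = g⁻¹ * c * g⁻¹⁻¹ by group, order_conj] at this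
      rw [← this]; exact pow_orderOf_eq_one c
  · rw [htwo] at hd
    have h2 : 2 ∣ Nat.card h.A := by
      rw [← h.z_ord]; exact Subgroup.orderOf_dvd_natCard _ (self_mem_Cn _)
    have hpos : 0 < Nat.card h.A := Nat.card_pos
    omega

end Hyp

end Cfsg.Agent.AbelCent
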