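import Cfsg.Agent.Lib.AbelCent.CaseI
import Cfsg.Agent.Lib.AbelCent.CaseII
import Cfsg.Agent.Lib.Fusion.ClosedExtraspecial
import Mathlib.GroupTheory.Transfer

/-!
Groups in which the centralizers of involutions are abelian.
-/

set_option autoImplicit false
set_option linter.style.haveILetI false
set_option linter.unusedSectionVars false

namespace Cfsg.Agent.AbelCent

open Cfsg.Agent.Invol

universe u

theorem good_of_hyp {G : Type u} [Group G] [Finite G] {T : Sylow 2 G} (h : Hyp T) : Good G := by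
  suffices H : ∀ n : ℕ, ∀ (K : Type u) [Group K] [Finite K], Nat.card K = n →
      ∀ S : Sylow 2 K, Hyp S → Good K from H _ G rfl T h
  intro n
  induction n using Nat.strong_induction_on with
  | _ n IHn =>
    intro K _ _ hK S hS
    subst hK
    have ih : IH K := fun L _ _ hlt R hR => IHn _ hlt L rfl R hR
    by_cases hodd : ∃ N : Subgroup K, N.Normal ∧ Odd (Nat.card N) ∧ N ≠ ⊥
    · obtain ⟨N, hN, ho, h1⟩ := hodd
      exact hS.step_odd ih hN ho h1
    have hno : ∀ N : Subgroup K, N.Normal → Odd (Nat.card N) → N = ⊥ := fun N hN ho => by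
      by_contra h1
      exact hodd ⟨N, hN, ho, h1⟩
    haveI : Nontrivial K := ⟨⟨hS.z, 1, ne_one hS.z_ord⟩⟩
    haveI : IsSimpleGroup K := ⟨fun M hM => by
      by_contra hc
      push Not at hc
      exact (hS.step_normal ih hno hM hc.1 hc.2).elim⟩
    obtain ⟨F, _, _, hF, ⟨e⟩⟩ := hS.psl_of_TI (hS.ti_of_B fun b hb hb1 => hS.Cn_le_H ih hb hb1)
    haveI : Fact (Nat.Prime 2) := ⟨Nat.prime_two⟩
    obtain ⟨m, hm⟩ := IsPGroup.iff_card.1 S.2
    have h4 : 4 ≤ Fintype.card F := by
      rw [hF, hm]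
      rcases Nat.lt_or_ge m 2 with hlt | hge
      · exfalso
        refine hS.noncyc ?_
        rcases Nat.lt_or_ge m 1 with h0 | h0
        · have : m = 0 := by omega
          subst this
          haveI : Subsingleton (S : Subgroup K) := (Nat.card_eq_one_iff_unique.1 (by rw [hm, pow_zero])).1
          exact isCyclic_of_subsingleton
        · have : m = 1 := by omega
          subst this
          exact isCyclic_of_prime_card (p := 2) (by rw [hm, pow_one])
      · exact Nat.pow_le_pow_right two_pos hge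
    haveI : CharP F 2 := charP_of_card_eq_prime_pow (f := m) (by rw [hF, hm])
    refine ⟨F, inferInstance, inferInstance, inferInstance, h4,
      (e.trans SL.pslEquiv).toMonoidHom, MulEquiv.surjective _, ?_, ?_⟩
    · rw [(MonoidHom.ker_eq_bot_iff _).2 (MulEquiv.injective _)]
      exact bot_le
    · rw [(MonoidHom.ker_eq_bot_iff _).2 (MulEquiv.injective _), Subgroup.card_bot]
      exact odd_one

theorem Good.split {G : Type u} [Group G] [Finite G] (hg : Good G) :
    ∃ (F : Type) (_ : Field F) (_ : Fintype F) (A : Type) (_ : CommGroup A) (_ : Finite A),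
      CharP F 2 ∧ Odd (Nat.card A) ∧ Nonempty (G ≃* Matrix.SpecialLinearGroup (Fin 2) F × A) := by
  classical
  obtain ⟨F, _, _, hF, -, π, hsurj, hker, hodd⟩ := hg
  haveI : IsMulCommutative π.ker := ⟨⟨fun a b => Subtype.ext (Subgroup.mem_center_iff.1 (hker b.2) a.1)⟩⟩
  set L := Subgroup.closure {t : G | orderOf t = 2} with hL
  let ψ : ↥L →* Matrix.SpecialLinearGroup (Fin 2) F := π.comp L.subtype
  have hψs : Function.Surjective ψ := by
    have hmap : L.map π = ⊤ := by
      rw [eq_top_iff, ← SL.closure_invols, Subgroup.closure_le]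
      intro s hs
      obtain ⟨t, ht, rfl⟩ := exists_invol_lift π hodd hsurj hs
      exact Subgroup.mem_map_of_mem π (Subgroup.subset_closure ht)
    intro s
    obtain ⟨x, hx, rfl⟩ : s ∈ L.map π := hmap ▸ Subgroup.mem_top s
    exact ⟨⟨x, hx⟩, rfl⟩
  have hψc : ψ.ker ≤ Subgroup.center L := fun x hx =>
    Subgroup.mem_center_iff.2 fun y => Subtype.ext (Subgroup.mem_center_iff.1 (hker hx) y.1)
  have hψodd : Odd (Nat.card ψ.ker) := hodd.of_dvd_nat
    (Subgroup.card_dvd_of_injective ((L.subtype.domRestrict ψ.ker).codRestrict π.ker fun x => x.2)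
      fun a b e => Subtype.ext (Subtype.ext (congrArg (fun y : π.ker => (y : G)) e)))
  have hψbot : ψ.ker = ⊥ := by
    by_contra hne
    obtain ⟨r, hr, hrd⟩ := Nat.exists_prime_and_dvd (n := Nat.card ψ.ker)
      (fun e => hne (Subgroup.card_eq_one.1 e))
    haveI : Fact r.Prime := ⟨hr⟩
    have hr2 : r ≠ 2 := by
      rintro rfl
      exact Nat.not_even_iff_odd.2 hψodd (even_iff_two_dvd.2 hrd)
    obtain ⟨⟨z, hzk⟩, hzo⟩ := exists_prime_orderOf_dvd_card' r hrd
    rw [Subgroup.orderOf_mk] at hzo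
    obtain ⟨P, hP⟩ := (IsPGroup.of_card (p := r) (n := 1) (G := Subgroup.zpowers z)
      (by rw [Nat.card_zpowers, hzo, pow_one])).exists_le_sylow
    have hzP : z ∈ (P : Subgroup L) := hP (Subgroup.mem_zpowers z)
    -- `P` is abelian
    obtain ⟨R, hR⟩ := (P.2.map ψ).exists_le_sylow
    haveI := SL.sylow_cyclic hr2 R
    let f : ↥(P : Subgroup L) →* ↥(R : Subgroup (Matrix.SpecialLinearGroup (Fin 2) F)) :=
      (ψ.domRestrict (P : Subgroup L)).codRestrict _ fun x => hR (Subgroup.mem_map_of_mem ψ x.2)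
    have hfk : f.ker ≤ Subgroup.center (P : Subgroup L) := fun x hx =>
      Subgroup.mem_center_iff.2 fun y => Subtype.ext (Subgroup.mem_center_iff.1
        (hψc (MonoidHom.mem_ker.2 (congrArg Subtype.val (MonoidHom.mem_ker.1 hx) :))) y.1)
    haveI : IsCyclic f.range := inferInstance
    have hcomm : ∀ a b : (P : Subgroup L), a * b = b * a :=
      fun a b => commutative_of_cyclic_center_quotient f.rangeRestrict
        (by rw [MonoidHom.ker_rangeRestrict]; exact hfk) a b
    letI : CommGroup (P : Subgroup L) := { (inferInstance : Group (P : Subgroup L)) with mul_comm := hcomm }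
    let τ := MonoidHom.transfer (MonoidHom.id (P : Subgroup L))
    have hPodd : Odd (Nat.card (P : Subgroup L)) := by
      obtain ⟨j, hj⟩ := IsPGroup.iff_card.1 P.2
      rw [hj]
      exact (hr.odd_of_ne_two hr2).pow
    have hLτ : L ≤ τ.ker.map L.subtype := by
      refine (Subgroup.closure_le _).2 ?_
      intro t ht
      refine ⟨⟨t, Subgroup.subset_closure ht⟩, ?_, rfl⟩
      rw [SetLike.mem_coe, MonoidHom.mem_ker]
      refine eq_one_of_odd_two_pow (j := 1) (hPodd.of_dvd_nat (orderOf_dvd_natCard _)) ?_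
      rw [pow_one, ← map_pow, show (⟨t, Subgroup.subset_closure ht⟩ : L) ^ 2 = 1 from Subtype.ext (by
        show t ^ 2 = 1
        rw [← (ht : orderOf t = 2)]; exact pow_orderOf_eq_one t), map_one]
    have hz0 : τ z = 1 := by
      obtain ⟨x, hx, hxe⟩ := hLτ z.2
      rwa [Subtype.ext hxe] at hx
    have hzc := Subgroup.mem_center_iff.1 (hψc hzk)
    have e := MonoidHom.transfer_eq_pow (MonoidHom.id (P : Subgroup L)) z fun k g₀ _ => by
      have hcg : Commute g₀ (z ^ k) := Commute.pow_right (hzc g₀) k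
      rw [mul_assoc, ← hcg.eq, ← mul_assoc, inv_mul_cancel, one_mul]
    rw [show τ z = MonoidHom.transfer (MonoidHom.id (P : Subgroup L)) z from rfl, e] at hz0
    have hzi : z ^ (P : Subgroup L).index = 1 := congrArg Subtype.val hz0
    have h1 : orderOf z ∣ (P : Subgroup L).index := orderOf_dvd_of_pow_eq_one hzi
    rw [hzo] at h1
    exact P.not_dvd_index h1
  let φ : Matrix.SpecialLinearGroup (Fin 2) F ≃* ↥L :=
    (MulEquiv.ofBijective ψ ⟨(MonoidHom.ker_eq_bot_iff ψ).1 hψbot, hψs⟩).symm
  have hφ : ∀ s, π (φ s : G) = s := fun s =>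
    (MulEquiv.ofBijective ψ ⟨(MonoidHom.ker_eq_bot_iff ψ).1 hψbot, hψs⟩).apply_symm_apply s
  let f : Matrix.SpecialLinearGroup (Fin 2) F × ↥π.ker →* G :=
    MonoidHom.mk' (fun p => (φ p.1 : G) * (p.2 : G)) fun p p' => by
      have hc : Commute ((φ p'.1 : G)) (p.2 : G) := Subgroup.mem_center_iff.1 (hker p.2.2) _
      simp only [Prod.fst_mul, Prod.snd_mul, map_mul, Subgroup.coe_mul]
      rw [mul_assoc, ← mul_assoc (φ p'.1 : G), hc.eq, mul_assoc, ← mul_assoc]
  have hf : ∀ p, π (f p) = p.1 := fun p => by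
    show π ((φ p.1 : G) * (p.2 : G)) = p.1
    rw [map_mul, hφ, MonoidHom.mem_ker.1 p.2.2, mul_one]
  have hfb : Function.Bijective f := by
    constructor
    · intro p p' e
      have h1 : p.1 = p'.1 := by rw [← hf p, ← hf p', e]
      refine Prod.ext h1 (Subtype.ext ?_)
      have e' : (φ p.1 : G) * (p.2 : G) = (φ p'.1 : G) * (p'.2 : G) := e
      rw [h1] at e'
      exact mul_left_cancel e'
    · intro g
      refine ⟨(π g, ⟨((φ (π g)) : G)⁻¹ * g, ?_⟩), mul_inv_cancel_left _ _⟩
      rw [MonoidHom.mem_ker, map_mul, map_inv, hφ, inv_mul_cancel]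
  obtain ⟨A, _, ⟨e⟩⟩ := FusionSys.exists_small_copy_comm π.ker
  haveI : Finite A := Finite.of_equiv _ e.toEquiv
  exact ⟨F, inferInstance, inferInstance, A, inferInstance, inferInstance, hF,
    by rw [← Nat.card_congr e.toEquiv]; exact hodd,
    ⟨(MulEquiv.ofBijective f hfb).symm.trans (MulEquiv.prodCongr (MulEquiv.refl _) e)⟩⟩

end Cfsg.Agent.AbelCent
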