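import Cfsg.Agent.Lib.Involutions.SwapCount
import Cfsg.Agent.Lib.Solvable.Coprime
import Cfsg.Agent.S1225

/-!
Finite groups in which all involutions have abelian centralizers: basic structure.
-/

set_option autoImplicit false
set_option linter.style.haveILetI false
set_option linter.unusedSectionVars false

namespace Cfsg.Agent.AbelCent

open Cfsg.Agent.Invol

universe u

variable {G : Type u} [Group G] [Finite G]

/-- All involutions have abelian centralizers. -/
def AC (G : Type u) [Group G] : Prop :=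
  ∀ t : G, orderOf t = 2 → IsMulCommutative ↥(Subgroup.centralizer ({t} : Set G))

/-- The centralizer of an element. -/
abbrev Cn (t : G) : Subgroup G := Subgroup.centralizer ({t} : Set G)

theorem mem_Cn {t g : G} : g ∈ Cn t ↔ g * t = t * g := Subgroup.mem_centralizer_singleton_iff

theorem self_mem_Cn (t : G) : t ∈ Cn t := mem_Cn.2 rfl

theorem conj_mem_Cn {x a : G} (g : G) : g * a * g⁻¹ ∈ Cn (g * x * g⁻¹) ↔ a ∈ Cn x := by
  rw [mem_Cn, mem_Cn, show g * a * g⁻¹ * (g * x * g⁻¹) = g * (a * x) * g⁻¹ by group,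
    show g * x * g⁻¹ * (g * a * g⁻¹) = g * (x * a) * g⁻¹ by group]
  exact ⟨fun h => mul_left_cancel (mul_right_cancel h), fun h => by rw [h]⟩

theorem mem_conj_iff {H : Subgroup G} {g x : G} :
    x ∈ H.map (MulAut.conj g).toMonoidHom ↔ g⁻¹ * x * g ∈ H := Invol.mem_conj_map

theorem Cn_map (x g : G) : (Cn x).map (MulAut.conj g).toMonoidHom = Cn (g * x * g⁻¹) := by
  ext y
  rw [mem_conj_iff, ← conj_mem_Cn g, show g * (g⁻¹ * y * g) * g⁻¹ = y by group]

/-- The standing hypotheses. -/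
structure Hyp (T : Sylow 2 G) : Prop where
  ac : AC G
  noncyc : ¬ IsCyclic (T : Subgroup G)
  nonnormal : ¬ (T : Subgroup G).Normal

namespace Hyp

variable {T : Sylow 2 G} (h : Hyp T)
include h

theorem comm {t a b : G} (ht : orderOf t = 2) (ha : a ∈ Cn t) (hb : b ∈ Cn t) : a * b = b * a :=
  congrArg Subtype.val ((h.ac t ht).is_comm.comm ⟨a, ha⟩ ⟨b, hb⟩)

theorem Cn_eq {s t : G} (hs : orderOf s = 2) (ht : orderOf t = 2) (hst : s ∈ Cn t) : Cn s = Cn t := by
  have key : ∀ a b : G, orderOf a = 2 → b ∈ Cn a → Cn a ≤ Cn b := fun a b ha hb x hx =>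
    mem_Cn.2 (h.comm ha hx hb)
  exact le_antisymm (key s t hs (mem_Cn.2 (mem_Cn.1 hst).symm)) (key t s ht hst)

theorem exists_central :
    ∃ z ∈ (T : Subgroup G), orderOf z = 2 ∧ (T : Subgroup G) ≤ Cn z := by
  haveI : Fact (Nat.Prime 2) := ⟨Nat.prime_two⟩
  have hnt : Nontrivial (T : Subgroup G) := by
    rw [Subgroup.nontrivial_iff_ne_bot]
    intro e
    exact h.noncyc (by rw [e]; exact isCyclic_of_subsingleton)
  obtain ⟨k, hk⟩ := IsPGroup.iff_card.mp (T.2.to_subgroup (Subgroup.center (T : Subgroup G)))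
  have := T.2.center_nontrivial
  have h1 : 1 < Nat.card (Subgroup.center (T : Subgroup G)) := Finite.one_lt_card
  obtain ⟨z, hz⟩ := exists_prime_orderOf_dvd_card' (p := 2)
    (show 2 ∣ Nat.card (Subgroup.center (T : Subgroup G)) by
      rw [hk] at h1 ⊢
      exact dvd_pow_self 2 (by rintro rfl; simp at h1))
  refine ⟨((z : (T : Subgroup G)) : G), (z : (T : Subgroup G)).2, ?_, fun y hy => ?_⟩
  · rw [Subgroup.orderOf_coe, Subgroup.orderOf_coe, hz]
  · exact mem_Cn.2 (congrArg Subtype.val (Subgroup.mem_center_iff.mp z.2 ⟨y, hy⟩))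

/-- A fixed central involution. -/
noncomputable def z (h : Hyp T) : G := h.exists_central.choose

theorem z_mem : h.z ∈ (T : Subgroup G) := h.exists_central.choose_spec.1

theorem z_ord : orderOf h.z = 2 := h.exists_central.choose_spec.2.1

/-- The common centralizer of the involutions of `T`. -/
noncomputable abbrev A (h : Hyp T) : Subgroup G := Cn h.z

/-- Its normalizer. -/
noncomputable abbrev H (h : Hyp T) : Subgroup G := Subgroup.normalizer (h.A : Set G)

theorem T_le : (T : Subgroup G) ≤ h.A := h.exists_central.choose_spec.2.2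

theorem comm_A {a b : G} (ha : a ∈ h.A) (hb : b ∈ h.A) : a * b = b * a := h.comm h.z_ord ha hb

theorem A_le_H : h.A ≤ h.H := Subgroup.le_normalizer

theorem mem_T_of_pow {a : G} (ha : a ∈ h.A) {j : ℕ} (hj : a ^ 2 ^ j = 1) : a ∈ (T : Subgroup G) := by
  haveI : Fact (Nat.Prime 2) := ⟨Nat.prime_two⟩
  have hp : IsPGroup 2 (Subgroup.zpowers a) := by
    obtain ⟨i, -, hi⟩ := (Nat.dvd_prime_pow Nat.prime_two).1 (orderOf_dvd_of_pow_eq_one hj)
    exact IsPGroup.of_card (n := i) (by rw [Nat.card_zpowers, hi])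
  have hN : Subgroup.zpowers a ≤ Subgroup.normalizer ((T : Subgroup G) : Set G) := by
    refine (Subgroup.zpowers_le.2 ?_).trans (Subgroup.centralizer_le_normalizer _)
    exact Subgroup.mem_centralizer_iff.2 fun t ht => h.comm_A (h.T_le ht) ha
  exact (le_inf le_rfl hN).trans ((hp.inf_normalizer_sylow T).le.trans inf_le_right)
    (Subgroup.mem_zpowers a)

theorem mem_T_of_invol {a : G} (ha : a ∈ h.A) (ha2 : orderOf a = 2) : a ∈ (T : Subgroup G) :=
  h.mem_T_of_pow ha (j := 1) (by rw [pow_one, ← ha2]; exact pow_orderOf_eq_one a)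

theorem Cn_invol {s : G} (hs : orderOf s = 2) (hsA : s ∈ h.A) : Cn s = h.A := h.Cn_eq hs h.z_ord hsA

theorem Cn_conj_z (g : G) : Cn (g * h.z * g⁻¹) = h.A.map (MulAut.conj g).toMonoidHom := (Cn_map _ g).symm

theorem mem_H_of_conj {g t : G} (ht : orderOf t = 2) (htA : t ∈ h.A) (hg : g * t * g⁻¹ ∈ h.A) : g ∈ h.H := by
  rw [Subgroup.mem_normalizer_iff_map_conj_eq]
  have e := Cn_map t g
  rw [h.Cn_invol ht htA, h.Cn_invol ((order_conj g t).trans ht) hg] at e
  exact e

theorem conj_T_le {g : G} (hg : g ∈ h.H) {x : G} (hx : x ∈ (T : Subgroup G)) :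
    g * x * g⁻¹ ∈ (T : Subgroup G) := by
  obtain ⟨j, hj⟩ := IsPGroup.iff_orderOf.1 T.2 ⟨x, hx⟩
  rw [Subgroup.orderOf_mk] at hj
  refine h.mem_T_of_pow ((Subgroup.mem_normalizer_iff.1 hg x).1 (h.T_le hx)) (j := j) ?_
  rw [_root_.conj_pow, ← hj, pow_orderOf_eq_one, mul_one, mul_inv_cancel]

theorem H_le_normalizer_T : h.H ≤ Subgroup.normalizer ((T : Subgroup G) : Set G) := by
  intro g hg
  refine Subgroup.mem_normalizer_iff.2 fun x => ⟨h.conj_T_le hg, fun hx => ?_⟩
  have := h.conj_T_le (inv_mem hg) hx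
  rwa [show g⁻¹ * (g * x * g⁻¹) * g⁻¹⁻¹ = x by group] at this

theorem invol_mem_A {s : G} (hs : orderOf s = 2) (hsH : s ∈ h.H) : s ∈ h.A := by
  haveI : Fact (Nat.Prime 2) := ⟨Nat.prime_two⟩
  have hp : IsPGroup 2 (Subgroup.zpowers s) :=
    IsPGroup.of_card (n := 1) (by rw [Nat.card_zpowers, hs, pow_one])
  exact h.T_le ((le_inf le_rfl (Subgroup.zpowers_le.2 (h.H_le_normalizer_T hsH))).trans
    ((hp.inf_normalizer_sylow T).le.trans inf_le_right) (Subgroup.mem_zpowers s))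

theorem H_ne_top : h.H ≠ ⊤ := fun e => h.nonnormal
  (Subgroup.normalizer_eq_top_iff.1 (top_le_iff.1 (e ▸ h.H_le_normalizer_T)))

theorem stronglyEmbedded : Cfsg.IsStronglyEmbedded h.H := by
  refine ⟨h.H_ne_top, even_of_invol_mem h.z_ord (h.A_le_H (self_mem_Cn _)), fun g hg => ?_⟩
  rw [← Nat.not_even_iff_odd]
  intro he
  obtain ⟨s, ⟨hsH, hsg⟩, hs⟩ := exists_invol he
  have hs' := mem_conj_iff.1 hsg
  have hso : orderOf (g⁻¹ * s * g) = 2 := by
    rw [show g⁻¹ * s * g = g⁻¹ * s * g⁻¹⁻¹ by group, order_conj, hs]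
  refine hg (h.mem_H_of_conj hso (h.invol_mem_A hso hs') ?_)
  rw [show g * (g⁻¹ * s * g) * g⁻¹ = s by group]
  exact h.invol_mem_A hs hsH

theorem exists_invol_not_mem : ∃ u : G, orderOf u = 2 ∧ u ∉ h.H := by
  obtain ⟨g, hg⟩ : ∃ g, g ∉ h.H := by
    by_contra hc
    push Not at hc
    exact h.H_ne_top ((Subgroup.eq_top_iff' _).2 hc)
  refine ⟨g * h.z * g⁻¹, (order_conj _ _).trans h.z_ord, fun hu => hg ?_⟩
  exact h.mem_H_of_conj h.z_ord (self_mem_Cn _) (h.invol_mem_A ((order_conj _ _).trans h.z_ord) hu)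

/-- The number of involutions in `H`. -/
noncomputable def k (h : Hyp T) : ℕ := Nat.card {t : G // orderOf t = 2 ∧ t ∈ h.H}

theorem exists_four : ∃ a b : G, a ∈ (T : Subgroup G) ∧ b ∈ (T : Subgroup G) ∧ orderOf a = 2 ∧
    orderOf b = 2 ∧ a ≠ b := by
  haveI : IsMulCommutative (T : Subgroup G) :=
    ⟨⟨fun a b => Subtype.ext (h.comm_A (h.T_le a.2) (h.T_le b.2))⟩⟩
  obtain ⟨q, E, hq, hE, hexp⟩ := CoprimeAct.exists_elementary_of_not_isCyclic h.noncyc
  haveI : Fact (Nat.Prime 2) := ⟨Nat.prime_two⟩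
  have hq2 : q = 2 := by
    have hd : q ∣ Nat.card (T : Subgroup G) :=
      (dvd_pow_self q two_ne_zero).trans (hE ▸ Subgroup.card_subgroup_dvd_card E)
    obtain ⟨m, hm⟩ := IsPGroup.iff_card.1 T.2
    rw [hm] at hd
    exact (Nat.prime_dvd_prime_iff_eq hq Nat.prime_two).1 (hq.dvd_of_dvd_pow hd)
  subst hq2
  obtain ⟨a, ha⟩ : ∃ a : E, a ≠ 1 := by
    haveI := Finite.one_lt_card_iff_nontrivial.1 (by rw [hE]; norm_num : 1 < Nat.card E)
    exact exists_ne 1
  obtain ⟨b, hb1, hba⟩ : ∃ b : E, b ≠ 1 ∧ b ≠ a := by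
    classical
    haveI := Fintype.ofFinite E
    obtain ⟨b, hb⟩ := Finset.exists_mem_notMem_of_card_lt_card (s := ({1, a} : Finset E))
      (t := Finset.univ) (lt_of_le_of_lt Finset.card_le_two
        (by rw [Finset.card_univ, ← Nat.card_eq_fintype_card, hE]; norm_num))
    exact ⟨b, by simpa [not_or] using hb.2⟩
  have ho : ∀ x : E, x ≠ 1 → orderOf ((x : (T : Subgroup G)) : G) = 2 := fun x hx => by
    rw [Subgroup.orderOf_coe, Subgroup.orderOf_coe]
    exact orderOf_eq_prime (hexp x) hx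
  exact ⟨_, _, (a : (T : Subgroup G)).2, (b : (T : Subgroup G)).2, ho a ha, ho b hb1,
    fun e => hba (Subtype.ext (Subtype.ext e)).symm⟩

theorem three_le_k : 3 ≤ h.k := by
  classical
  obtain ⟨a, b, ha, hb, hao, hbo, hab⟩ := h.exists_four
  haveI := Fintype.ofFinite G
  have hc : a * b = b * a := h.comm_A (h.T_le ha) (h.T_le hb)
  have hab' : orderOf (a * b) = 2 := by
    refine order_two_of_sq ?_ fun e => hab ?_
    · rw [show a * b * (a * b) = a * (b * a) * b by group, ← hc, show a * (a * b) * b = (a * a) * (b * b) by group,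
        mul_self hao, mul_self hbo, mul_one]
    · rw [← inv_self hbo]; exact mul_eq_one_iff_eq_inv.1 e
  rw [k, Nat.card_eq_fintype_card, Fintype.card_subtype]
  have hsub : ({a, b, a * b} : Finset G) ⊆ Finset.univ.filter fun t => orderOf t = 2 ∧ t ∈ h.H := by
    intro t ht
    simp only [Finset.mem_insert, Finset.mem_singleton] at ht
    rw [Finset.mem_filter]
    refine ⟨Finset.mem_univ _, ?_⟩
    rcases ht with rfl | rfl | rfl
    · exact ⟨hao, h.A_le_H (h.T_le ha)⟩
    · exact ⟨hbo, h.A_le_H (h.T_le hb)⟩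
    · exact ⟨hab', h.A_le_H (h.T_le (mul_mem ha hb))⟩
  have h3 : ({a, b, a * b} : Finset G).card = 3 := by
    rw [Finset.card_insert_of_notMem, Finset.card_pair]
    · exact fun e => ne_one hao (right_eq_mul.1 e)
    · simp only [Finset.mem_insert, Finset.mem_singleton, not_or]
      exact ⟨hab, fun e => ne_one hbo (left_eq_mul.1 e)⟩
  exact h3 ▸ Finset.card_le_card hsub

/-- `H` permutes the involutions of `A` transitively. -/
theorem H_trans {s t : G} (hs : orderOf s = 2) (hsH : s ∈ h.H) (ht : orderOf t = 2) (htH : t ∈ h.H) :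
    ∃ g ∈ h.H, g * s * g⁻¹ = t := by
  obtain ⟨u, hu, huH⟩ := h.exists_invol_not_mem
  obtain ⟨⟨d, hd, e⟩, -⟩ := S1225.result h.H h.stronglyEmbedded u hu huH s t hs hsH ht htH
  exact ⟨d, hd.1, e⟩

theorem card_H : Nat.card h.H = Nat.card h.A * h.k := by
  have hiff : ∀ g : h.H, (g : G) ∈ h.A ↔ (g : G) * h.z * (g : G)⁻¹ = h.z := fun g =>
    ⟨fun hg => by rw [mem_Cn.1 hg, mul_inv_cancel_right],
      fun hg => mem_Cn.2 (mul_inv_eq_iff_eq_mul.1 hg)⟩
  let f : ↥h.H ⧸ h.A.subgroupOf h.H → {t : G // orderOf t = 2 ∧ t ∈ h.H} := fun c =>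
    Quotient.liftOn' c (fun g => ⟨(g : G) * h.z * (g : G)⁻¹, (order_conj _ _).trans h.z_ord,
      mul_mem (mul_mem g.2 (h.A_le_H (self_mem_Cn _))) (inv_mem g.2)⟩) (by
        intro g g' hgg'
        rw [QuotientGroup.leftRel_apply, Subgroup.mem_subgroupOf] at hgg'
        apply Subtype.ext
        have e := mem_Cn.1 hgg'
        simp only [Subgroup.coe_mul, Subgroup.coe_inv] at e
        show (g : G) * h.z * (g : G)⁻¹ = (g' : G) * h.z * (g' : G)⁻¹
        calc (g : G) * h.z * (g : G)⁻¹ = g * (h.z * ((g : G)⁻¹ * g')) * (g' : G)⁻¹ := by group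
          _ = g * (((g : G)⁻¹ * g') * h.z) * (g' : G)⁻¹ := by rw [← e]
          _ = g' * h.z * (g' : G)⁻¹ := by group)
  have hbij : Function.Bijective f := by
    constructor
    · intro c c' hcc
      induction c using Quotient.inductionOn' with
      | h g =>
        induction c' using Quotient.inductionOn' with
        | h g' =>
          apply Quotient.sound'
          rw [QuotientGroup.leftRel_apply, Subgroup.mem_subgroupOf, hiff]
          have e : (g : G) * h.z * (g : G)⁻¹ = (g' : G) * h.z * (g' : G)⁻¹ := congrArg Subtype.val hcc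
          simp only [Subgroup.coe_mul, Subgroup.coe_inv]
          calc ((g : G)⁻¹ * g') * h.z * ((g : G)⁻¹ * g')⁻¹ = (g : G)⁻¹ * (g' * h.z * (g' : G)⁻¹) * g := by group
            _ = h.z := by rw [← e]; group
    · rintro ⟨t, ht, htH⟩
      obtain ⟨g, hg, e⟩ := h.H_trans h.z_ord (h.A_le_H (self_mem_Cn _)) ht htH
      exact ⟨Quotient.mk'' ⟨g, hg⟩, Subtype.ext e⟩
  have h1 := (h.A.subgroupOf h.H).card_mul_index
  rw [Nat.card_congr (Subgroup.subgroupOfEquivOfLe h.A_le_H).toEquiv, Subgroup.index_eq_card,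
    Nat.card_eq_of_bijective f hbij] at h1
  exact h1.symm

/-- A non-trivial element of `T` has centralizer inside `A`. -/
theorem Cn_le_A {a : G} (ha : a ∈ (T : Subgroup G)) (ha1 : a ≠ 1) : Cn a ≤ h.A := by
  obtain ⟨j, hj⟩ := IsPGroup.iff_orderOf.1 T.2 ⟨a, ha⟩
  rw [Subgroup.orderOf_mk] at hj
  obtain ⟨i, rfl⟩ := Nat.exists_eq_succ_of_ne_zero (fun e : j = 0 => ha1 (orderOf_eq_one_iff.1 (by rw [hj, e, pow_zero])))
  have ho : orderOf (a ^ 2 ^ i) = 2 := by
    rw [orderOf_pow, hj, Nat.gcd_eq_right (pow_dvd_pow 2 (Nat.le_succ i)), pow_succ,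
      Nat.mul_div_cancel_left _ (Nat.two_pow_pos i)]
  rw [← h.Cn_invol ho (h.T_le (pow_mem ha _))]
  intro x hx
  exact mem_Cn.2 (Commute.pow_right (mem_Cn.1 hx : Commute x a) _).eq

/-- A normal subgroup of odd order lies in every involution centralizer. -/
theorem odd_normal_le {N : Subgroup G} (hN : N.Normal) (hodd : Odd (Nat.card N)) : N ≤ h.A := by
  haveI : Fact (Nat.Prime 2) := ⟨Nat.prime_two⟩
  haveI : IsMulCommutative (T : Subgroup G) :=
    ⟨⟨fun a b => Subtype.ext (h.comm_A (h.T_le a.2) (h.T_le b.2))⟩⟩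
  have hcop : (Nat.card (T : Subgroup G)).Coprime (Nat.card N) := by
    obtain ⟨j, hj⟩ := IsPGroup.iff_card.1 T.2
    rw [hj]; exact (Nat.coprime_two_left.2 hodd).pow_left j
  rw [← CoprimeAct.generated_by_centralizers (A := (T : Subgroup G)) h.noncyc
    (by rw [Subgroup.normalizer_eq_top_iff.2 hN]; exact le_top) hcop]
  exact iSup₂_le fun a ha => inf_le_right.trans (h.Cn_le_A ha.1 ha.2)

theorem odd_normal_comm {N : Subgroup G} (hN : N.Normal) (hodd : Odd (Nat.card N)) {t n : G}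
    (ht : orderOf t = 2) (hn : n ∈ N) : n ∈ Cn t := by
  obtain ⟨g, hg⟩ := isConj_iff.1 (se_isConj h.stronglyEmbedded h.z_ord ht)
  have := h.odd_normal_le hN hodd (hN.conj_mem n hn g⁻¹)
  rw [← hg, ← conj_mem_Cn g⁻¹, show g⁻¹ * (g * h.z * g⁻¹) * g⁻¹⁻¹ = h.z by group]
  exact this

end Hyp

end Cfsg.Agent.AbelCent
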