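import Mathlib.GroupTheory.GroupAction.Quotient
import Mathlib.GroupTheory.Index
import Mathlib.GroupTheory.OrderOfElement
import Mathlib.Algebra.Order.BigOperators.Group.Finset
import Mathlib.Tactic.Ring
import Mathlib.Tactic.Linarith
import Mathlib.Algebra.Group.Nat.Even

/-!
Two small facts on permutation groups.
-/

set_option autoImplicit false
set_option linter.style.haveILetI false

namespace Cfsg.Agent.AbelCent

open MulAction

/-- If `Q` is trivial on `Y`, of index `k = |Y| - 1 ≥ 2`, and elements outside `Q` fix at most one point,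
then there is exactly one common fixed point. -/
theorem exists_unique_fix {P Y : Type*} [Group P] [Finite P] [MulAction P Y] [Finite Y] (Q : Subgroup P)
    {k : ℕ} (hk : 2 ≤ k) (hQ : Q.index = k) (hY : Nat.card Y = k + 1) (htriv : ∀ p ∈ Q, ∀ y : Y, p • y = y)
    (hone : ∀ p, p ∉ Q → ∀ y y' : Y, p • y = y → p • y' = y' → y = y') :
    ∃! y : Y, ∀ p : P, p • y = y := by
  classical
  haveI := Fintype.ofFinite P
  haveI := Fintype.ofFinite Y
  haveI := Fintype.ofFinite (Quotient (orbitRel P Y))
  have hsum := sum_card_fixedBy_eq_card_orbits_mul_card_group P Y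
  have hPcard : Fintype.card P = Nat.card Q * k := by
    rw [← hQ, Q.card_mul_index, Nat.card_eq_fintype_card]
  have hbound : ∑ p : P, Fintype.card (fixedBy Y p) ≤ 2 * (Nat.card Q * k) := by
    calc ∑ p : P, Fintype.card (fixedBy Y p) ≤ ∑ p : P, (1 + if p ∈ Q then k else 0) := by
          refine Finset.sum_le_sum fun p _ => ?_
          by_cases hp : p ∈ Q
          · rw [if_pos hp, add_comm, ← hY, Nat.card_eq_fintype_card]
            exact Fintype.card_subtype_le _
          · rw [if_neg hp, add_zero]
            exact Fintype.card_le_one_iff_subsingleton.2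
              ⟨fun a b => Subtype.ext (hone p hp _ _ a.2 b.2)⟩
      _ = 2 * (Nat.card Q * k) := by
          rw [Finset.sum_add_distrib, ← Finset.sum_filter, Finset.sum_const, Finset.sum_const,
            Finset.card_univ, hPcard, smul_eq_mul, smul_eq_mul, mul_one,
            ← Fintype.card_subtype, ← Nat.card_eq_fintype_card]
          ring
  rw [hsum, hPcard] at hbound
  have horb : Fintype.card (Quotient (orbitRel P Y)) ≤ 2 :=
    Nat.le_of_mul_le_mul_right hbound (Nat.mul_pos Nat.card_pos (by omega))
  have hdvd : ∀ y : Y, Nat.card (orbit P y) ∣ k := fun y => by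
    rw [Nat.card_coe_set_eq, ← index_stabilizer, ← hQ]
    exact Subgroup.index_dvd_of_le fun p hp => mem_stabilizer_iff.2 (htriv p hp y)
  have hsig : Nat.card Y = ∑ ω : Quotient (orbitRel P Y), Nat.card (orbit P ω.out) := by
    rw [← Nat.card_sigma]
    exact Nat.card_congr (selfEquivSigmaOrbits P Y)
  obtain ⟨ω, hω⟩ : ∃ ω : Quotient (orbitRel P Y), Nat.card (orbit P ω.out) = 1 := by
    by_contra hc
    push Not at hc
    rw [hY] at hsig
    have hle : ∀ ω : Quotient (orbitRel P Y), Nat.card (orbit P ω.out) ≤ k := fun ω =>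
      Nat.le_of_dvd (by omega) (hdvd _)
    rcases Nat.lt_or_ge (Fintype.card (Quotient (orbitRel P Y))) 2 with h1 | h1
    · have := Finset.sum_le_card_nsmul Finset.univ (fun ω : Quotient (orbitRel P Y) => Nat.card (orbit P ω.out))
        k fun ω _ => hle ω
      rw [← hsig, Finset.card_univ, smul_eq_mul] at this
      nlinarith
    · obtain ⟨a, b, hab, hu⟩ := Finset.card_eq_two.1 (Finset.card_univ.trans (le_antisymm horb h1))
      rw [hu, Finset.sum_pair hab] at hsig
      obtain ⟨da, hda⟩ := hdvd a.out
      obtain ⟨db, hdb⟩ := hdvd b.out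
      have h2a := hc a
      have h2b := hc b
      generalize Nat.card (orbit P a.out) = A at *
      generalize Nat.card (orbit P b.out) = B at *
      have hda0 : da ≠ 0 := by rintro rfl; rw [mul_zero] at hda; omega
      have hdb0 : db ≠ 0 := by rintro rfl; rw [mul_zero] at hdb; omega
      rcases Nat.lt_or_ge da 2 with e | e
      · have : da = 1 := by omega
        subst this; omega
      rcases Nat.lt_or_ge db 2 with e' | e'
      · have : db = 1 := by omega
        subst this; omega
      have := Nat.mul_le_mul_left A e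
      have := Nat.mul_le_mul_left B e'
      omega
  rw [Nat.card_eq_one_iff_unique] at hω
  obtain ⟨hsub, -⟩ := hω
  refine ⟨ω.out, fun p => ?_, fun y' hy' => ?_⟩
  · exact congrArg Subtype.val (hsub.elim ⟨p • ω.out, mem_orbit _ _⟩ ⟨ω.out, mem_orbit_self _⟩)
  · obtain ⟨p, hp⟩ : ∃ p, p ∉ Q := by
      by_contra hc
      push Not at hc
      rw [(Subgroup.eq_top_iff' _).2 hc, Subgroup.index_top] at hQ
      omega
    exact hone p hp _ _ (hy' p)
      (congrArg Subtype.val (hsub.elim ⟨p • ω.out, mem_orbit _ _⟩ ⟨ω.out, mem_orbit_self _⟩))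

/-- A transitive group of odd order has no point stabiliser fixing exactly two points. -/
theorem fix_two_false {P X : Type*} [Group P] [Finite P] [MulAction P X] [Finite X]
    (hodd : Odd (Nat.card P)) (htr : IsPretransitive P X) {x y : X} (hxy : y ≠ x)
    (hy : ∀ p ∈ stabilizer P x, p • y = y)
    (honly : ∀ c : X, (∀ p ∈ stabilizer P x, p • c = c) → c = x ∨ c = y) : False := by
  haveI := htr
  obtain ⟨p, hp⟩ := exists_smul_eq P x y
  have hle : stabilizer P x ≤ stabilizer P y := fun q hq => mem_stabilizer_iff.2 (hy q hq)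
  have heq : stabilizer P x = stabilizer P y := by
    refine Subgroup.eq_of_le_of_card_ge hle (le_of_eq ?_)
    have h1 := (stabilizer P x).card_mul_index
    have h2 := (stabilizer P y).card_mul_index
    rw [index_stabilizer_of_transitive] at h1 h2
    haveI : Nonempty X := ⟨x⟩
    exact Nat.eq_of_mul_eq_mul_right Nat.card_pos (h2.trans h1.symm)
  have hfix : ∀ q ∈ stabilizer P x, q • (p • y) = p • y := by
    intro q hq
    have h1 : p⁻¹ * q * p ∈ stabilizer P x := by
      rw [mem_stabilizer_iff, mul_smul, mul_smul, hp, inv_smul_eq_iff, hp]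
      exact hy q hq
    have h2 := hy _ h1
    rwa [mul_smul, mul_smul, inv_smul_eq_iff] at h2
  rcases honly (p • y) hfix with h | h
  · obtain ⟨m, hm⟩ : Odd (orderOf p) := hodd.of_dvd_nat (orderOf_dvd_natCard p)
    have h2 : p ^ 2 ∈ stabilizer P x := by rw [mem_stabilizer_iff, pow_two, mul_smul, hp, h]
    have h3 : (p ^ 2) ^ (m + 1) ∈ stabilizer P x := pow_mem h2 _
    rw [← pow_mul, show 2 * (m + 1) = 2 * m + 1 + 1 by ring, pow_succ, ← hm, pow_orderOf_eq_one, one_mul,
      mem_stabilizer_iff, hp] at h3
    exact hxy h3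
  · exact hxy ((smul_left_cancel p (h.trans hp.symm)))

end Cfsg.Agent.AbelCent
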