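import Cfsg.Agent.Lib.AbelCent.Parts
import Cfsg.Agent.Lib.AbelCent.Orbit

/-!
In a simple group the centralizer of a non-trivial element of odd order in `A` lies in `H`.
-/

set_option autoImplicit false
set_option linter.style.haveILetI false
set_option linter.unusedSectionVars false

namespace Cfsg.Agent.AbelCent

open Cfsg.Agent.Invol

universe u

variable {G : Type u} [Group G] [Finite G]

theorem not_central [IsSimpleGroup G] {T : Sylow 2 G} (h : Hyp T) {b : G} (hb : b ≠ 1) : Cn b ≠ ⊤ := by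
  intro e
  have hc : b ∈ Subgroup.center G :=
    Subgroup.mem_center_iff.2 fun g => mem_Cn.1 (e ▸ Subgroup.mem_top g : g ∈ Cn b)
  rcases IsSimpleGroup.eq_bot_or_eq_top_of_normal (Subgroup.center G) inferInstance with h1 | h1
  · rw [h1, Subgroup.mem_bot] at hc; exact hb hc
  · exact h.nonnormal ⟨fun x hx g => by
      rw [← Subgroup.mem_center_iff.1 (h1 ▸ Subgroup.mem_top g : g ∈ Subgroup.center G) x,
        mul_inv_cancel_right]; exact hx⟩

namespace Hyp

variable {T : Sylow 2 G} (h : Hyp T)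
include h

theorem Cn_le_N_B [IsSimpleGroup G] (ih : IH G) {b : G} (hb : b ∈ h.B) (hb1 : b ≠ 1) :
    Cn b ≤ Subgroup.normalizer (h.B : Set G) := by
  intro g hg
  by_cases hgH : g ∈ h.H
  · exact h.H_le_N_B hgH
  have hA : h.A ≤ Cn b := fun a ha => mem_Cn.2 (h.comm_A ha hb.1)
  have hM : Good (Cn b) :=
    ih _ (card_lt_of_ne_top (not_central h hb1)) _ (h.sub (h.T_le.trans hA) hg hgH)
  rw [← inv_inv g]
  refine inv_mem (h.mem_N_B fun a ha => ?_)
  rw [inv_inv]
  have hz2 : orderOf (⟨h.z, hA (self_mem_Cn _)⟩ : Cn b) = 2 := by rw [Subgroup.orderOf_mk, h.z_ord]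
  have hcen := hM.center_of_odd (y := ⟨a, hA ha.1⟩) hz2 (by rw [Subgroup.orderOf_mk]; exact ha.2)
    (mem_Cn.2 (Subtype.ext (mem_Cn.1 ha.1)))
  have hc := congrArg Subtype.val (Subgroup.mem_center_iff.1 hcen
    ⟨g * h.z * g⁻¹, mul_mem (mul_mem hg (hA (self_mem_Cn _))) (inv_mem hg)⟩)
  simp only [Subgroup.coe_mul] at hc
  refine ⟨?_, by rw [show g⁻¹ * a * g = g⁻¹ * a * g⁻¹⁻¹ by group, order_conj]; exact ha.2⟩
  rw [← conj_mem_Cn g, show g * (g⁻¹ * a * g) * g⁻¹ = a by group]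
  exact mem_Cn.2 hc.symm

/-- Case I cannot occur. -/
theorem Cn_le_H [IsSimpleGroup G] (ih : IH G) {b : G} (hb : b ∈ h.B) (hb1 : b ≠ 1) : Cn b ≤ h.H := by
  intro g hg
  by_contra hgH
  set M := Subgroup.normalizer (h.B : Set G) with hMdef
  have hgM : g ∈ M := h.Cn_le_N_B ih hb hb1 hg
  have hHM : h.H ≤ M := h.H_le_N_B
  have hTM : (T : Subgroup G) ≤ M := h.T_le.trans (h.A_le_H.trans hHM)
  have hzM : h.z ∈ M := hTM h.z_mem
  have hMtop : M ≠ ⊤ := by
    intro e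
    rcases IsSimpleGroup.eq_bot_or_eq_top_of_normal h.B (Subgroup.normalizer_eq_top_iff.1 e) with h1 | h1
    · exact hb1 (Subgroup.mem_bot.1 (h1 ▸ hb))
    · exact h.H_ne_top (top_le_iff.1 (h1 ▸ h.B_le_A.trans h.A_le_H))
  have hyp : Hyp (T.subtype hTM) := h.sub hTM hgM hgH
  have hM : Good M := ih _ (card_lt_of_ne_top hMtop) _ hyp
  -- `B` is central in `M`
  have hcB : ∀ m ∈ M, ∀ c ∈ h.B, m * c = c * m := by
    intro m hm c hc
    have hcM : c ∈ M := hHM (h.A_le_H hc.1)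
    have := hM.center_of_odd (t := ⟨h.z, hzM⟩) (y := ⟨c, hcM⟩) (by rw [Subgroup.orderOf_mk, h.z_ord])
      (by rw [Subgroup.orderOf_mk]; exact hc.2) (mem_Cn.2 (Subtype.ext (mem_Cn.1 hc.1)))
    exact congrArg Subtype.val (Subgroup.mem_center_iff.1 this ⟨m, hm⟩)
  -- involutions of `M`
  have hconjM : ∀ t : G, orderOf t = 2 → t ∈ M → ∃ m ∈ M, m * h.z * m⁻¹ = t := by
    intro t ht htM
    obtain ⟨m, hm⟩ := isConj_iff.1 (se_isConj hyp.stronglyEmbedded (a := ⟨h.z, hzM⟩) (b := ⟨t, htM⟩)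
      (by rw [Subgroup.orderOf_mk, h.z_ord]) (by rw [Subgroup.orderOf_mk, ht]))
    exact ⟨m, m.2, congrArg Subtype.val hm⟩
  have hBC : ∀ t : G, orderOf t = 2 → t ∈ M → ∀ c : G, (c ∈ Cn t ∧ Odd (orderOf c)) ↔ c ∈ h.B := by
    intro t ht htM c
    obtain ⟨m, hm, rfl⟩ := hconjM t ht htM
    constructor
    · rintro ⟨hc, hco⟩
      have hc' : m⁻¹ * c * m ∈ h.B := ⟨by
        rw [← conj_mem_Cn m, show m * (m⁻¹ * c * m) * m⁻¹ = c by group]; exact hc,
        by rw [show m⁻¹ * c * m = m⁻¹ * c * m⁻¹⁻¹ by group, order_conj]; exact hco⟩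
      have e := hcB m hm _ hc'
      rw [show m * (m⁻¹ * c * m) = c * m by group] at e
      rwa [mul_right_cancel e]
    · intro hc
      refine ⟨?_, hc.2⟩
      have e := (conj_mem_Cn (x := h.z) m).2 hc.1
      rwa [hcB m hm c hc, mul_inv_cancel_right] at e
  have hSE : Cfsg.IsStronglyEmbedded M := by
    refine ⟨hMtop, even_of_invol_mem h.z_ord hzM, fun x hx => ?_⟩
    rw [← Nat.not_even_iff_odd]
    intro he
    obtain ⟨s, ⟨hsM, hsx⟩, hs⟩ := exists_invol he
    have hs' := mem_conj_iff.1 hsx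
    have hso : orderOf (x⁻¹ * s * x) = 2 := by
      rw [show x⁻¹ * s * x = x⁻¹ * s * x⁻¹⁻¹ by group, order_conj, hs]
    refine hx (h.mem_N_B fun c hc => (hBC s hs hsM _).1 ⟨?_, by rw [order_conj]; exact hc.2⟩)
    have := (conj_mem_Cn (x := x⁻¹ * s * x) x).2 ((hBC _ hso hs' c).2 hc).1
    rwa [show x * (x⁻¹ * s * x) * x⁻¹ = s by group] at this
  obtain ⟨u, hu, huM⟩ : ∃ u : G, orderOf u = 2 ∧ u ∉ M := by
    obtain ⟨x, hx⟩ : ∃ x, x ∉ M := by
      by_contra hc
      push Not at hc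
      exact hMtop ((Subgroup.eq_top_iff' _).2 hc)
    exact ⟨x * h.z * x⁻¹, (order_conj _ _).trans h.z_ord, fun hu => hx (se_mem_of_conj hSE h.z_ord hzM hu)⟩
  set D := M ⊓ M.map (MulAut.conj u).toMonoidHom with hD
  set P := D.subgroupOf M with hP
  have hPodd : Odd (Nat.card P) := by
    rw [hP, Nat.card_congr (Subgroup.subgroupOfEquivOfLe (inf_le_left : D ≤ M)).toEquiv]
    exact hSE.2.2 u huM
  have htrI : ∀ s t : G, orderOf s = 2 → s ∈ M → orderOf t = 2 → t ∈ M →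
      ∃ p : P, ((p : M) : G) * s * ((p : M) : G)⁻¹ = t := by
    intro s t hs hsM ht htM
    obtain ⟨⟨d, hd, e⟩, -⟩ := S1225.result M hSE u hu huM s t hs hsM ht htM
    exact ⟨⟨⟨d, hd.1⟩, hd⟩, e⟩
  -- orders
  obtain ⟨d, -, h4, hMcard, hcent, hd⟩ := hM.card_eq (T.subtype hTM)
  set q := Nat.card (T : Subgroup G) with hqdef
  have hTc : Nat.card (T.subtype hTM : Subgroup M) = q :=
    Nat.card_congr (Subgroup.subgroupOfEquivOfLe hTM).toEquiv
  rw [hTc] at hMcard h4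
  have hdB : d = Nat.card h.B := by
    rw [hd]
    refine Nat.card_eq_of_bijective (fun y => (⟨(y.1 : G), ?_⟩ : h.B)) ⟨?_, ?_⟩
    · exact ⟨mem_Cn.2 (congrArg Subtype.val (Subgroup.mem_center_iff.1 y.2.1 ⟨h.z, hzM⟩)).symm,
        by rw [Subgroup.orderOf_coe]; exact y.2.2⟩
    · exact fun a a' e => Subtype.ext (Subtype.ext (congrArg (fun z : h.B => (z : G)) e))
    · intro c
      refine ⟨⟨⟨c.1, hHM (h.A_le_H c.2.1)⟩, Subgroup.mem_center_iff.2 fun m => Subtype.ext (hcB m.1 m.2 c.1 c.2),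
        by rw [Subgroup.orderOf_mk]; exact c.2.2⟩, rfl⟩
  have hel : ∀ x ∈ (T : Subgroup G), x * x = 1 := by
    intro x hx
    obtain ⟨j, hj⟩ := T.2 ⟨x, hx⟩
    exact congrArg Subtype.val (hM.two_elt (x := ⟨x, hTM hx⟩) (j := j) (Subtype.ext (congrArg Subtype.val hj :)))
  have hk := h.k_add_one hel
  rw [← hqdef] at hk
  have hidx : (h.H.subgroupOf M).index = q + 1 := by
    have e := (h.H.subgroupOf M).card_mul_index
    rw [Nat.card_congr (Subgroup.subgroupOfEquivOfLe hHM).toEquiv, h.card_H, h.card_A, ← hqdef, hMcard, hdB,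
      show q - 1 = h.k by omega] at e
    have hpos : 0 < q * Nat.card h.B * h.k :=
      Nat.mul_pos (Nat.mul_pos (by omega) Nat.card_pos) (by omega)
    exact Nat.eq_of_mul_eq_mul_left hpos (e.trans (by ring))
  -- the action of `P` on the cosets of `H` in `M`
  set H' := h.H.subgroupOf M with hH'
  set x₀ : M ⧸ H' := ((1 : M) : M ⧸ H') with hx₀
  have hfix0 : ∀ m : M, m • x₀ = x₀ ↔ (m : G) ∈ h.H := fun m => by
    rw [hx₀, MulAction.Quotient.smul_mk, QuotientGroup.eq, smul_eq_mul, mul_one, mul_one, Subgroup.inv_mem_iff,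
      hH', Subgroup.mem_subgroupOf]
  have htr : MulAction.IsPretransitive P (M ⧸ H') := by
    suffices hs : ∀ c : M ⧸ H', ∃ p : P, p • x₀ = c from ⟨fun a b => by
      obtain ⟨p, rfl⟩ := hs a
      obtain ⟨q, rfl⟩ := hs b
      exact ⟨q * p⁻¹, by rw [mul_smul, inv_smul_smul]⟩⟩
    intro c
    induction c using QuotientGroup.induction_on with
    | _ m =>
      obtain ⟨p, hp⟩ := htrI h.z ((m : G) * h.z * (m : G)⁻¹) h.z_ord hzM ((order_conj _ _).trans h.z_ord)
        (mul_mem (mul_mem m.2 hzM) (inv_mem m.2))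
      refine ⟨p, ?_⟩
      show (p : M) • x₀ = (m : M ⧸ H')
      rw [hx₀, MulAction.Quotient.smul_mk, QuotientGroup.eq, smul_eq_mul, mul_one, hH', Subgroup.mem_subgroupOf]
      refine h.A_le_H (mem_Cn.2 (mul_inv_eq_iff_eq_mul.1 ?_))
      simp only [Subgroup.coe_mul, Subgroup.coe_inv]
      rw [show (((p : M) : G))⁻¹ * (m : G) * h.z * (((p : M) : G)⁻¹ * (m : G))⁻¹ =
        ((p : M) : G)⁻¹ * ((m : G) * h.z * (m : G)⁻¹) * ((p : M) : G) by group, ← hp]
      group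
  set S := MulAction.stabilizer P x₀ with hSdef
  have hSH : ∀ p : S, (((p : P) : M) : G) ∈ h.H := fun p => (hfix0 _).1 p.2
  let φ : ↥S →* G := M.subtype.comp (P.subtype.comp S.subtype)
  set Q := h.A.comap φ with hQ
  have hQi : Q.index = h.k := by
    rw [hQ]
    refine index_comap_Cn φ h.z (fun t : {t : G // orderOf t = 2 ∧ t ∈ h.H} => t.1) Subtype.val_injective fun t => ?_
    constructor
    · rintro ⟨⟨t, ht, htH⟩, rfl⟩
      obtain ⟨p, hp⟩ := htrI h.z t h.z_ord hzM ht (hHM htH)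
      have hpH : ((p : M) : G) ∈ h.H :=
        h.mem_H_of_conj h.z_ord (self_mem_Cn _) (by rw [hp]; exact h.invol_mem_A ht htH)
      exact ⟨⟨p, (hfix0 _).2 hpH⟩, hp⟩
    · rintro ⟨p, rfl⟩
      exact ⟨⟨_, (order_conj _ _).trans h.z_ord,
        mul_mem (mul_mem (hSH p) (h.A_le_H (self_mem_Cn _))) (inv_mem (hSH p))⟩, rfl⟩
  have hkcard : Nat.card (SubMulAction.ofStabilizer P x₀) = h.k + 1 := by
    classical
    haveI := Fintype.ofFinite (M ⧸ H')
    have e : Nat.card (SubMulAction.ofStabilizer P x₀) = Nat.card {c : M ⧸ H' // c ≠ x₀} :=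
      Nat.card_congr (Equiv.subtypeEquivRight fun c => Iff.rfl)
    rw [e, Nat.card_eq_fintype_card, Fintype.card_subtype_compl, Fintype.card_subtype_eq,
      ← Nat.card_eq_fintype_card, ← Subgroup.index_eq_card, hidx, Nat.add_sub_cancel, hk]
  -- `T` is regular on the other points
  have hne : ∀ t ∈ h.A, ∀ (c : M ⧸ H') (htM : t ∈ M), c ≠ x₀ → (⟨t, htM⟩ : M) • c ≠ x₀ := by
    intro t ht c htM hc e
    refine hc ?_
    rwa [← (hfix0 ⟨t, htM⟩).2 (h.A_le_H ht), smul_left_cancel_iff] at e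
  have hfree : ∀ (t : G) (ht : t ∈ (T : Subgroup G)) (c : M ⧸ H'), c ≠ x₀ →
      (⟨t, hTM ht⟩ : M) • c = c → t = 1 := by
    intro t ht c hc e
    by_contra ht1
    induction c using QuotientGroup.induction_on with
    | _ m =>
      rw [MulAction.Quotient.smul_mk, QuotientGroup.eq, smul_eq_mul, hH', Subgroup.mem_subgroupOf] at e
      simp only [Subgroup.coe_mul, Subgroup.coe_inv] at e
      have hto : orderOf t = 2 := order_two_of_sq (hel t ht) ht1
      have hmem : (m : G)⁻¹ * t * m ∈ h.H := by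
        have := inv_mem e
        rwa [show (((t : G) * m)⁻¹ * m)⁻¹ = (m : G)⁻¹ * t * m by group] at this
      have ho : orderOf ((m : G)⁻¹ * t * m) = 2 := by
        rw [show (m : G)⁻¹ * t * m = (m : G)⁻¹ * t * (m : G)⁻¹⁻¹ by group, order_conj, hto]
      refine hc ?_
      rw [hx₀, QuotientGroup.eq, mul_one, hH', Subgroup.mem_subgroupOf, Subgroup.coe_inv]
      exact inv_mem (h.mem_H_of_conj ho (h.invol_mem_A ho hmem)
        (by rw [show (m : G) * ((m : G)⁻¹ * t * m) * (m : G)⁻¹ = t by group]; exact h.T_le ht))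
  have hone : ∀ p : S, p ∉ Q → ∀ y y' : SubMulAction.ofStabilizer P x₀, p • y = y → p • y' = y' → y = y' := by
    intro p hp y y' hy hy'
    let f : ↥(T : Subgroup G) → SubMulAction.ofStabilizer P x₀ := fun t =>
      ⟨(⟨(t : G), hTM t.2⟩ : M) • (y : M ⧸ H'), hne _ (h.T_le t.2) _ _ y.2⟩
    have hfinj : Function.Injective f := by
      intro a a' e
      have e' : (⟨(a : G), hTM a.2⟩ : M) • (y : M ⧸ H') = (⟨(a' : G), hTM a'.2⟩ : M) • (y : M ⧸ H') :=
        congrArg Subtype.val e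
      have := hfree ((a'⁻¹ * a : (T : Subgroup G)) : G) (a'⁻¹ * a).2 _ y.2 (by
        show ((⟨(a' : G), hTM a'.2⟩ : M)⁻¹ * ⟨(a : G), hTM a.2⟩) • (y : M ⧸ H') = _
        rw [mul_smul, e', inv_smul_smul])
      exact (inv_mul_eq_one.1 (Subtype.ext this)).symm
    have hfs : Function.Surjective f :=
      ((Nat.bijective_iff_injective_and_card f).2 ⟨hfinj, by rw [hkcard, hk]⟩).2
    obtain ⟨t, ht⟩ := hfs y'
    have ht' : (⟨(t : G), hTM t.2⟩ : M) • (y : M ⧸ H') = y' := congrArg Subtype.val ht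
    set g' : M := ((p : P) : M) with hg'
    have hy1 : g' • (y : M ⧸ H') = y := congrArg Subtype.val hy
    have hy1' : g'⁻¹ • (y : M ⧸ H') = y := by rw [inv_smul_eq_iff, hy1]
    have hy2 : g' • (y' : M ⧸ H') = y' := congrArg Subtype.val hy'
    have hct : (g' : G) * t * (g' : G)⁻¹ ∈ (T : Subgroup G) := h.conj_T_le (hSH p) t.2
    have h3 : (⟨(g' : G) * t * (g' : G)⁻¹, hTM hct⟩ : M) • (y : M ⧸ H') = y' := by
      show (g' * ⟨(t : G), hTM t.2⟩ * g'⁻¹) • (y : M ⧸ H') = y'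
      rw [mul_smul, mul_smul, hy1', ht', hy2]
    have h4' : f ⟨_, hct⟩ = f t := Subtype.ext (h3.trans ht'.symm)
    have h5 : (g' : G) * t * (g' : G)⁻¹ = t := congrArg Subtype.val (hfinj h4')
    by_cases ht1 : (t : G) = 1
    · refine Subtype.ext ?_
      rw [← ht', show (⟨(t : G), hTM t.2⟩ : M) = 1 from Subtype.ext ht1, one_smul]
    · exact absurd (h.Cn_le_A t.2 ht1 (mem_Cn.2 (mul_inv_eq_iff_eq_mul.1 h5))) hp
  have htriv : ∀ p ∈ Q, ∀ y : SubMulAction.ofStabilizer P x₀, p • y = y := by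
    intro p hp y
    refine Subtype.ext ?_
    show ((p : P) : M) • (y : M ⧸ H') = y
    set g' : M := ((p : P) : M) with hg'
    have hgB : (g' : G) ∈ h.B := ⟨hp, by
      rw [hg', Subgroup.orderOf_coe, Subgroup.orderOf_coe]
      exact hPodd.of_dvd_nat (orderOf_dvd_natCard _)⟩
    obtain ⟨m, hm⟩ := QuotientGroup.mk_surjective (y : M ⧸ H')
    rw [← hm, MulAction.Quotient.smul_mk, QuotientGroup.eq, smul_eq_mul, hH', Subgroup.mem_subgroupOf]
    simp only [Subgroup.coe_mul, Subgroup.coe_inv]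
    rw [← hcB m m.2 _ hgB, mul_inv_rev, mul_assoc, inv_mul_cancel, mul_one]
    exact inv_mem (hSH p)
  have h3k := h.three_le_k
  obtain ⟨y, hy, huniq⟩ := exists_unique_fix Q (by omega) hQi hkcard htriv hone
  haveI := htr
  refine fix_two_false hPodd htr (x := x₀) (y := (y : M ⧸ H')) y.2 (fun p hp => congrArg Subtype.val (hy ⟨p, hp⟩))
    fun c hc => ?_
  by_cases hcx : c = x₀
  · exact Or.inl hcx
  · exact Or.inr (congrArg Subtype.val (huniq ⟨c, hcx⟩ fun p => Subtype.ext (hc p.1 p.2)))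

end Hyp

end Cfsg.Agent.AbelCent
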