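import Cfsg.Agent.Lib.AbelCent.Reduce

/-!
The odd part of the centralizer of an involution, and some indices.
-/

set_option autoImplicit false
set_option linter.style.haveILetI false
set_option linter.unusedSectionVars false

namespace Cfsg.Agent.AbelCent

open Cfsg.Agent.Invol

universe u

variable {G : Type u} [Group G] [Finite G]

/-- The index of the preimage of a centralizer. -/
theorem index_comap_Cn {K : Type*} [Group K] (φ : K →* G) (z : G) {I : Type*} (ι : I → G)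
    (hι : Function.Injective ι) (hI : ∀ t, (∃ i, ι i = t) ↔ ∃ p : K, φ p * z * (φ p)⁻¹ = t) :
    ((Cn z).comap φ).index = Nat.card I := by
  have hiff : ∀ a b : K, a⁻¹ * b ∈ (Cn z).comap φ ↔ φ a * z * (φ a)⁻¹ = φ b * z * (φ b)⁻¹ := by
    intro a b
    rw [Subgroup.mem_comap, mem_Cn, map_mul, map_inv]
    constructor
    · intro e
      calc φ a * z * (φ a)⁻¹ = φ a * (z * ((φ a)⁻¹ * φ b)) * (φ b)⁻¹ := by group
        _ = φ a * ((φ a)⁻¹ * φ b * z) * (φ b)⁻¹ := by rw [← e]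
        _ = φ b * z * (φ b)⁻¹ := by group
    · intro e
      calc (φ a)⁻¹ * φ b * z = (φ a)⁻¹ * (φ b * z * (φ b)⁻¹) * φ b := by group
        _ = (φ a)⁻¹ * (φ a * z * (φ a)⁻¹) * φ b := by rw [← e]
        _ = z * ((φ a)⁻¹ * φ b) := by group
  choose f hf using fun p : K => (hI (φ p * z * (φ p)⁻¹)).2 ⟨p, rfl⟩
  rw [Subgroup.index_eq_card]
  refine Nat.card_eq_of_bijective (fun c => Quotient.liftOn' c f fun a b e => hι ?_) ⟨?_, ?_⟩
  · rw [hf, hf]
    exact (hiff a b).1 (QuotientGroup.leftRel_apply.1 e)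
  · intro a b
    induction a using Quotient.inductionOn' with
    | h a =>
      induction b using Quotient.inductionOn' with
      | h b =>
        intro e
        refine Quotient.sound' (QuotientGroup.leftRel_apply.2 ((hiff a b).2 ?_))
        rw [← hf, ← hf]
        exact congrArg ι e
  · intro i
    obtain ⟨p, hp⟩ := (hI (ι i)).1 ⟨i, rfl⟩
    exact ⟨Quotient.mk'' p, hι ((hf p).trans hp)⟩

namespace Hyp

variable {T : Sylow 2 G} (h : Hyp T)
include h

/-- The elements of odd order in `A`. -/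
noncomputable def B (h : Hyp T) : Subgroup G where
  carrier := {a | a ∈ h.A ∧ Odd (orderOf a)}
  one_mem' := ⟨one_mem _, by rw [orderOf_one]; exact odd_one⟩
  mul_mem' := fun {a b} ha hb => ⟨mul_mem ha.1 hb.1,
    (ha.2.mul hb.2).of_dvd_nat (Commute.orderOf_mul_dvd_mul_orderOf (h.comm_A ha.1 hb.1))⟩
  inv_mem' := fun {a} ha => ⟨inv_mem ha.1, by rw [orderOf_inv]; exact ha.2⟩

theorem mem_B {a : G} : a ∈ h.B ↔ a ∈ h.A ∧ Odd (orderOf a) := Iff.rfl

theorem B_le_A : h.B ≤ h.A := fun _ ha => ha.1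

theorem conj_B {g b : G} (hg : g ∈ h.H) (hb : b ∈ h.B) : g * b * g⁻¹ ∈ h.B :=
  ⟨(Subgroup.mem_normalizer_iff.1 hg b).1 hb.1, by rw [order_conj]; exact hb.2⟩

theorem mem_N_B {g : G} (hg : ∀ b ∈ h.B, g * b * g⁻¹ ∈ h.B) :
    g ∈ Subgroup.normalizer (h.B : Set G) := by
  rw [Subgroup.mem_normalizer_iff_map_conj_eq]
  refine Subgroup.eq_of_le_of_card_ge ?_ ?_
  · rintro x ⟨b, hb, rfl⟩
    exact hg b hb
  · rw [Subgroup.card_map_of_injective (MulEquiv.injective _)]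

theorem H_le_N_B : h.H ≤ Subgroup.normalizer (h.B : Set G) := fun _ hg => h.mem_N_B fun _ hb => h.conj_B hg hb

theorem card_A : Nat.card h.A = Nat.card (T : Subgroup G) * Nat.card h.B := by
  rw [← Nat.card_prod]
  refine (Nat.card_eq_of_bijective (fun p : ↥(T : Subgroup G) × ↥h.B =>
    (⟨(p.1 : G) * p.2, mul_mem (h.T_le p.1.2) (h.B_le_A p.2.2)⟩ : h.A)) ⟨?_, ?_⟩).symm
  · rintro ⟨t, b⟩ ⟨t', b'⟩ e
    have e' : (t : G) * b = t' * b' := congrArg Subtype.val e
    have e2 : (t' : G)⁻¹ * t = (b' : G) * (b : G)⁻¹ := by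
      rw [eq_mul_inv_iff_mul_eq, mul_assoc, e', inv_mul_cancel_left]
    obtain ⟨j, hj⟩ := T.2 (t'⁻¹ * t)
    have h1 : (t' : G)⁻¹ * t = 1 := eq_one_of_odd_two_pow
      (by rw [e2]; exact (mul_mem b'.2 (inv_mem b.2) : (b' : G) * (b : G)⁻¹ ∈ h.B).2)
      (congrArg Subtype.val hj)
    have ht : t' = t := Subtype.ext (inv_mul_eq_one.1 h1)
    subst ht
    exact Prod.ext rfl (Subtype.ext (mul_left_cancel e'))
  · rintro ⟨a, ha⟩
    obtain ⟨j, m, hm, e⟩ := Nat.exists_eq_two_pow_mul_odd (n := orderOf a) (orderOf_pos a).ne'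
    have ht : a ^ m ∈ (T : Subgroup G) := h.mem_T_of_pow (pow_mem ha _) (j := j)
      (by rw [← pow_mul, mul_comm, ← e, pow_orderOf_eq_one])
    have hb : a ^ 2 ^ j ∈ h.B := ⟨pow_mem ha _, by
      rw [orderOf_pow, e, Nat.gcd_mul_right_left, Nat.mul_div_cancel_left _ (Nat.two_pow_pos j)]; exact hm⟩
    have hg : Nat.gcd m (2 ^ j) = 1 := (Nat.coprime_two_right.2 hm).pow_right j
    refine ⟨(⟨_, zpow_mem ht (Nat.gcdA m (2 ^ j))⟩, ⟨_, zpow_mem hb (Nat.gcdB m (2 ^ j))⟩), Subtype.ext ?_⟩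
    show (a ^ m) ^ Nat.gcdA m (2 ^ j) * (a ^ 2 ^ j) ^ Nat.gcdB m (2 ^ j) = a
    rw [← zpow_natCast, ← zpow_natCast a (2 ^ j), ← zpow_mul, ← zpow_mul, ← zpow_add, ← Nat.gcd_eq_gcd_ab,
      hg, Nat.cast_one, zpow_one]

/-- If the elements of `T` square to one, they are, but for the identity, the involutions of `H`. -/
theorem k_add_one (hel : ∀ x ∈ (T : Subgroup G), x * x = 1) : h.k + 1 = Nat.card (T : Subgroup G) := by
  classical
  haveI := Fintype.ofFinite (T : Subgroup G)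
  have e : h.k = Nat.card {x : (T : Subgroup G) // x ≠ 1} :=
    Nat.card_congr ⟨fun t => ⟨⟨t.1, h.mem_T_of_invol (h.invol_mem_A t.2.1 t.2.2) t.2.1⟩,
      fun e => ne_one t.2.1 (congrArg Subtype.val e)⟩,
      fun x => ⟨x.1.1, order_two_of_sq (hel _ x.1.2) (fun e => x.2 (Subtype.ext e)), h.A_le_H (h.T_le x.1.2)⟩,
      fun t => rfl, fun x => rfl⟩
  rw [e, Nat.card_eq_fintype_card, Nat.card_eq_fintype_card, Fintype.card_subtype_compl,
    Fintype.card_subtype_eq, Nat.sub_add_cancel Fintype.card_pos]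

end Hyp

end Cfsg.Agent.AbelCent
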