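import Cfsg.Agent.Lib.AbelCent.Good

/-!
Reduction to simple groups.
-/

set_option autoImplicit false
set_option linter.style.haveILetI false
set_option linter.unusedSectionVars false

namespace Cfsg.Agent.AbelCent

open Cfsg.Agent.Invol

universe u

variable {G : Type u} [Group G] [Finite G]

/-- The induction hypothesis. -/
def IH (G : Type u) [Group G] : Prop :=
  ∀ (K : Type u) [Group K] [Finite K], Nat.card K < Nat.card G → ∀ T : Sylow 2 K, Hyp T → Good K

theorem AC.sub (hG : AC G) (M : Subgroup G) : AC M := by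
  intro t ht
  refine ⟨⟨fun a b => ?_⟩⟩
  have hc := hG t.1 (by rwa [Subgroup.orderOf_coe])
  apply Subtype.ext
  apply Subtype.ext
  have ha : (a.1 : G) ∈ Cn (t : G) := mem_Cn.2 (congrArg Subtype.val (mem_Cn.1 a.2))
  have hb : (b.1 : G) ∈ Cn (t : G) := mem_Cn.2 (congrArg Subtype.val (mem_Cn.1 b.2))
  have e := congrArg Subtype.val (hc.is_comm.comm ⟨_, ha⟩ ⟨_, hb⟩)
  exact e

theorem card_lt_of_ne_top {M : Subgroup G} (hM : M ≠ ⊤) : Nat.card M < Nat.card G :=
  lt_of_le_of_ne (Nat.le_of_dvd Nat.card_pos M.card_subgroup_dvd_card)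
    fun e => hM ((Subgroup.card_eq_iff_eq_top M).1 e)

namespace Hyp

variable {T : Sylow 2 G} (h : Hyp T)
include h

theorem sub {M : Subgroup G} (hTM : (T : Subgroup G) ≤ M) {g : G} (hgM : g ∈ M) (hgH : g ∉ h.H) :
    Hyp (T.subtype hTM) := by
  refine ⟨h.ac.sub M, fun hc => ?_, fun hn => hgH (h.mem_H_of_conj h.z_ord (self_mem_Cn _) ?_)⟩
  · haveI := hc
    exact h.noncyc ((Subgroup.subgroupOfEquivOfLe hTM).isCyclic.1 hc)
  · exact h.T_le (hn.conj_mem ⟨h.z, hTM h.z_mem⟩ h.z_mem ⟨g, hgM⟩)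

theorem isConj_z {t : G} (ht : orderOf t = 2) : ∃ g : G, g * h.z * g⁻¹ = t :=
  isConj_iff.1 (se_isConj h.stronglyEmbedded h.z_ord ht)

theorem exists_invol_out {M : Subgroup G} (hM : M.Normal) (hz : h.z ∈ M) {t : G}
    (ht : orderOf t = 2) : t ∈ M := by
  obtain ⟨g, rfl⟩ := h.isConj_z ht
  exact hM.conj_mem _ hz g

/-- A non-trivial normal subgroup has even order, if there is none of odd order. -/
theorem z_mem_normal (hno : ∀ N : Subgroup G, N.Normal → Odd (Nat.card N) → N = ⊥) {M : Subgroup G}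
    (hM : M.Normal) (h1 : M ≠ ⊥) : h.z ∈ M := by
  obtain ⟨s, hsM, hs⟩ := exists_invol (Nat.not_odd_iff_even.1 fun ho => h1 (hno M hM ho))
  obtain ⟨g, hg⟩ := h.isConj_z hs
  have := hM.conj_mem _ hsM g⁻¹
  rwa [← hg, show g⁻¹ * (g * h.z * g⁻¹) * g⁻¹⁻¹ = h.z by group] at this

/-- Step 2: a normal subgroup of odd order. -/
theorem step_odd (ih : IH G) {N : Subgroup G} (hN : N.Normal) (hodd : Odd (Nat.card N)) (h1 : N ≠ ⊥) :
    Good G := by
  haveI : Fact (Nat.Prime 2) := ⟨Nat.prime_two⟩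
  let p := QuotientGroup.mk' N
  have hp : Function.Surjective p := QuotientGroup.mk'_surjective N
  have hkp : Odd (Nat.card p.ker) := by rw [QuotientGroup.ker_mk']; exact hodd
  have hcard : Nat.card (G ⧸ N) < Nat.card G := by
    rw [Subgroup.card_eq_card_quotient_mul_card_subgroup N]
    exact lt_mul_of_one_lt_right Nat.card_pos (Subgroup.one_lt_card_iff_ne_bot N |>.2 h1)
  have hlift : ∀ {t g : G}, orderOf t = 2 → Commute (p g) (p t) → g ∈ Cn t := by
    intro t g ht hc
    obtain ⟨n, hn⟩ : ∃ n, n = t⁻¹ * (g * t * g⁻¹) := ⟨_, rfl⟩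
    have hnN : n ∈ N := by
      rw [← QuotientGroup.eq_one_iff]
      show p n = 1
      rw [hn]
      simp only [map_mul, map_inv, hc.eq, mul_inv_cancel_right, inv_mul_cancel]
    have e : g * t * g⁻¹ = t * n := by rw [hn, mul_inv_cancel_left]
    have hnt := mem_Cn.1 (h.odd_normal_comm hN hodd ht hnN)
    have h2 : n * n = 1 := by
      have := mul_self ((order_conj g t).trans ht)
      rw [e, show t * n * (t * n) = t * (n * t) * n by group, hnt, ← mul_assoc, mul_self ht, one_mul] at this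
      exact this
    rw [eq_one_of_odd_two_pow (j := 1) (odd_of_mem hodd hnN) (by rw [pow_one, pow_two, h2]), mul_one] at e
    exact mem_Cn.2 (mul_inv_eq_iff_eq_mul.1 e)
  have hac : AC (G ⧸ N) := by
    intro t ht
    obtain ⟨t, ht', rfl⟩ := exists_invol_lift p hkp hp ht
    refine ⟨⟨fun a b => ?_⟩⟩
    obtain ⟨a', ha'⟩ := hp a.1
    obtain ⟨b', hb'⟩ := hp b.1
    apply Subtype.ext
    show a.1 * b.1 = b.1 * a.1
    rw [← ha', ← hb', ← map_mul, ← map_mul, h.comm ht'
      (hlift ht' (by rw [ha']; exact mem_Cn.1 a.2)) (hlift ht' (by rw [hb']; exact mem_Cn.1 b.2))]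
  have hker : ∀ x ∈ (T : Subgroup G), x ∈ N → x = 1 := fun x hx hxN => by
    obtain ⟨j, hj⟩ := T.2 ⟨x, hx⟩
    exact eq_one_of_odd_two_pow (odd_of_mem hodd hxN) (congrArg Subtype.val hj)
  let T' : Sylow 2 (G ⧸ N) := T.mapSurjective hp
  have hT' : (T' : Subgroup (G ⧸ N)) = (T : Subgroup G).map p := rfl
  have hyp : Hyp T' := by
    refine ⟨hac, fun hc => h.noncyc ?_, fun hn => ?_⟩
    · rw [hT'] at hc
      refine isCyclic_of_injective (p.subgroupMap (T : Subgroup G)) fun a b e => ?_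
      have e' : p a = p b := congrArg Subtype.val e
      exact Subtype.ext (inv_mul_eq_one.1 (hker _ (mul_mem (inv_mem a.2) b.2) (QuotientGroup.eq.1 e')))
    · refine h.H_ne_top ((Subgroup.eq_top_iff' _).2 fun g => h.mem_H_of_conj h.z_ord (self_mem_Cn _) ?_)
      obtain ⟨x, hx, hxe⟩ := hn.conj_mem (p h.z) (Subgroup.mem_map_of_mem p h.z_mem) (p g)
      have hxN : x⁻¹ * (g * h.z * g⁻¹) ∈ N :=
        QuotientGroup.eq.1 (hxe.trans (show p g * p h.z * (p g)⁻¹ = p (g * h.z * g⁻¹) by rw [map_mul, map_mul, map_inv]))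
      rw [← mul_inv_cancel_left x (g * h.z * g⁻¹)]
      exact mul_mem (h.T_le hx) (h.odd_normal_le hN hodd hxN)
  obtain ⟨F, _, _, hF, h4, π, hsurj, -, hπodd⟩ := ih (G ⧸ N) hcard T' hyp
  have hcs : Function.Surjective (π.comp p) := hsurj.comp hp
  have hWodd : Odd (Nat.card (π.comp p).ker) := by
    have e1 := (π.comp p).ker.card_mul_index
    have e2 := π.ker.card_mul_index
    rw [Subgroup.index_ker, MonoidHom.range_eq_top.2 hcs, Subgroup.card_top] at e1
    rw [Subgroup.index_ker, MonoidHom.range_eq_top.2 hsurj, Subgroup.card_top] at e2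
    rw [Subgroup.card_eq_card_quotient_mul_card_subgroup N, ← e2, mul_right_comm] at e1
    rw [Nat.eq_of_mul_eq_mul_right Nat.card_pos e1]
    exact hπodd.mul hodd
  refine ⟨F, _, _, hF, h4, π.comp p, hsurj.comp hp, fun w hw => ?_, hWodd⟩
  set C := Subgroup.closure {t : G | orderOf t = 2} with hC
  have hmap : C.map (π.comp p) = ⊤ := by
    rw [eq_top_iff, ← SL.closure_invols, Subgroup.closure_le]
    intro s hs
    obtain ⟨t, ht, rfl⟩ := exists_invol_lift (π.comp p) hWodd hcs hs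
    exact Subgroup.mem_map_of_mem _ (Subgroup.subset_closure ht)
  rw [Subgroup.mem_center_iff]
  intro g
  obtain ⟨c, hc, hce⟩ : (π.comp p) g ∈ C.map (π.comp p) := hmap.symm ▸ Subgroup.mem_top _
  have hr : c⁻¹ * g ∈ (π.comp p).ker := by rw [MonoidHom.mem_ker, map_mul, map_inv, hce, inv_mul_cancel]
  have hWA := h.odd_normal_le (MonoidHom.normal_ker _) hWodd
  have hcw : Commute c w := Subgroup.mem_centralizer_singleton_iff.1 <| (Subgroup.closure_le
    (Subgroup.centralizer ({w} : Set G))).2 (fun t ht => Subgroup.mem_centralizer_singleton_iff.2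
      (mem_Cn.1 (h.odd_normal_comm (MonoidHom.normal_ker _) hWodd ht hw)).symm) hc
  have := hcw.mul_left (show Commute (c⁻¹ * g) w from h.comm_A (hWA hr) (hWA hw))
  rwa [mul_inv_cancel_left] at this

/-- Step 3: no normal subgroup of odd order, but a proper normal subgroup. -/
theorem step_normal (ih : IH G) (hno : ∀ N : Subgroup G, N.Normal → Odd (Nat.card N) → N = ⊥)
    {M : Subgroup G} (hM : M.Normal) (h1 : M ≠ ⊥) (htop : M ≠ ⊤) : False := by
  haveI : Fact (Nat.Prime 2) := ⟨Nat.prime_two⟩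
  haveI := hM
  have hzM : h.z ∈ M := h.z_mem_normal hno hM h1
  have hinv : ∀ t : G, orderOf t = 2 → t ∈ M := fun t ht => h.exists_invol_out hM hzM ht
  have hp0 : IsPGroup 2 ((T : Subgroup G).subgroupOf M) := T.2.comap_subtype
  have hi0 : ¬ 2 ∣ ((T : Subgroup G).subgroupOf M).index := by
    intro hd
    refine T.not_dvd_index (hd.trans ?_)
    obtain ⟨c, hc⟩ : (M.subgroupOf (T : Subgroup G)).index ∣ M.index :=
      M.relIndex_dvd_index_of_normal (T : Subgroup G)
    refine ⟨c, ?_⟩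
    have e : Nat.card ((T : Subgroup G).subgroupOf M) = Nat.card (M.subgroupOf (T : Subgroup G)) :=
      Nat.card_congr ⟨fun x => ⟨⟨x.1.1, x.2⟩, x.1.2⟩, fun x => ⟨⟨x.1.1, x.2⟩, x.1.2⟩,
        fun x => rfl, fun x => rfl⟩
    have h1 := (T : Subgroup G).card_mul_index
    rw [← M.card_mul_index, ← ((T : Subgroup G).subgroupOf M).card_mul_index,
      ← (M.subgroupOf (T : Subgroup G)).card_mul_index, e, hc, mul_assoc, mul_assoc] at h1
    refine Nat.eq_of_mul_eq_mul_left (Nat.pos_of_ne_zero Subgroup.index_ne_zero_of_finite :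
      0 < (M.subgroupOf (T : Subgroup G)).index) ?_
    rw [Nat.eq_of_mul_eq_mul_left Nat.card_pos h1, mul_left_comm]
  set S : Sylow 2 M := hp0.toSylow hi0 with hSdef
  have hS : (T : Subgroup G).subgroupOf M ≤ S := fun x hx => hx
  have hS' : ∀ x : M, x ∈ S → (x : G) ∈ (T : Subgroup G) := fun x hx => hx
  have hyp : Hyp S := by
    obtain ⟨a, b, ha, hb, hao, hbo, hab⟩ := h.exists_four
    refine ⟨h.ac.sub M, fun hc => hab ?_, fun hn => ?_⟩
    · haveI := hc
      classical
      haveI := Fintype.ofFinite (S : Subgroup M)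
      have key := IsCyclic.card_orderOf_eq_totient (α := (S : Subgroup M)) (d := 2)
      have ho : ∀ (c : G) (hc' : c ∈ (T : Subgroup G)) (hco : orderOf c = 2),
          orderOf (⟨⟨c, hinv c hco⟩, hS hc'⟩ : (S : Subgroup M)) = 2 := fun c hc' hco => by
        rw [Subgroup.orderOf_mk, Subgroup.orderOf_mk, hco]
      have h2 := key ((dvd_of_eq (ho a ha hao).symm).trans orderOf_dvd_card)
      rw [Nat.totient_two, Finset.card_eq_one] at h2
      obtain ⟨c, hc⟩ := h2
      have hm : ∀ x : (S : Subgroup M), orderOf x = 2 → x = c := fun x hx =>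
        Finset.mem_singleton.1 (hc ▸ Finset.mem_filter.2 ⟨Finset.mem_univ _, hx⟩)
      exact congrArg (fun x : (S : Subgroup M) => ((x : M) : G))
        ((hm _ (ho a ha hao)).trans (hm _ (ho b hb hbo)).symm)
    · obtain ⟨u, hu, huH⟩ := h.exists_invol_not_mem
      refine huH (h.A_le_H (h.T_le (hS' ⟨u, hinv u hu⟩ ?_)))
      haveI := hn
      haveI := Sylow.unique_of_normal S hn
      obtain ⟨R, hR⟩ := (IsPGroup.of_card (n := 1) (G := Subgroup.zpowers (⟨u, hinv u hu⟩ : M))
        (by rw [Nat.card_zpowers, Subgroup.orderOf_mk, hu, pow_one])).exists_le_sylow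
      rw [Subsingleton.elim R S] at hR
      exact hR (Subgroup.mem_zpowers _)
  obtain hg := ih M (card_lt_of_ne_top htop) S hyp
  -- the centre of `M` is trivial
  have hZ : ∀ y : M, y ∈ Subgroup.center M → Odd (orderOf y) → y = 1 := by
    intro y hy hyo
    have hN : ((Subgroup.center M).map M.subtype).Normal := inferInstance
    have hzc : Odd (Nat.card ((Subgroup.center M).map M.subtype)) := by
      rw [← Nat.not_even_iff_odd]
      intro he
      obtain ⟨s, ⟨s', hs', rfl⟩, hso⟩ := exists_invol he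
      refine hyp.H_ne_top ((Subgroup.eq_top_iff' _).2 fun m => hyp.mem_H_of_conj (t := s')
        (by rwa [← Subgroup.orderOf_coe]) (mem_Cn.2 ((Subgroup.mem_center_iff.1 hs') _).symm) ?_)
      rw [Subgroup.mem_center_iff.1 hs' m, mul_inv_cancel_right]
      exact mem_Cn.2 ((Subgroup.mem_center_iff.1 hs') _).symm
    have := hno _ hN hzc
    exact Subtype.ext ((Subgroup.mem_bot).1 (this ▸ Subgroup.mem_map_of_mem M.subtype hy : (y : G) ∈ (⊥ : Subgroup G)))
  obtain ⟨d, -, h4, hMcard, hcent, hd⟩ := hg.card_eq S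
  have hd1 : d = 1 := by
    rw [hd, Nat.card_eq_one_iff_unique]
    exact ⟨⟨fun x y => Subtype.ext ((hZ _ x.2.1 x.2.2).trans (hZ _ y.2.1 y.2.2).symm)⟩,
      ⟨⟨1, one_mem _, by rw [orderOf_one]; exact odd_one⟩⟩⟩
  rw [hd1, mul_one] at hMcard
  set q := Nat.card (S : Subgroup M) with hq
  -- inside `M` the centralizer of `z` is the Sylow 2-subgroup
  have hAM : ∀ x : G, x ∈ h.A → x ∈ M → x ∈ (T : Subgroup G) := by
    intro x hxA hxM
    obtain ⟨j, m, hm, e⟩ := Nat.exists_eq_two_pow_mul_odd (n := orderOf x) (orderOf_pos x).ne'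
    have hxo : orderOf ((⟨x, hxM⟩ : M) ^ 2 ^ j) = m := by
      rw [orderOf_pow, Subgroup.orderOf_mk, e, Nat.gcd_mul_right_left, Nat.mul_div_cancel_left _ (Nat.two_pow_pos j)]
    have := hZ _ (hcent ⟨h.z, hzM⟩ _ (by rw [Subgroup.orderOf_mk]; exact h.z_ord)
      (mem_Cn.2 ((Commute.pow_left (Subtype.ext (mem_Cn.1 hxA) : Commute (⟨x, hxM⟩ : M) ⟨h.z, hzM⟩) _).eq))
      (hxo ▸ hm)) (hxo ▸ hm)
    exact h.mem_T_of_pow hxA (j := j) (congrArg Subtype.val this)
  have hAMcard : Nat.card (h.A.subgroupOf M) = q :=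
    Nat.card_congr (Equiv.subtypeEquivRight fun x => ⟨fun hx => hS (hAM _ hx x.2), fun hx => h.T_le (hS' x hx)⟩)
  -- the indices
  have hsame : h.A.index = (h.A.subgroupOf M).index := by
    rw [Subgroup.index_eq_card, Subgroup.index_eq_card]
    refine (Nat.card_eq_of_bijective (fun c : ↥M ⧸ h.A.subgroupOf M => Quotient.liftOn' c
      (fun m => ((m : G) : G ⧸ h.A)) fun a b e => QuotientGroup.eq.2 (by
        rw [QuotientGroup.leftRel_apply, Subgroup.mem_subgroupOf] at e; exact e)) ⟨?_, ?_⟩).symm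
    · intro a b
      induction a using Quotient.inductionOn' with
      | h a =>
        induction b using Quotient.inductionOn' with
        | h b =>
          intro e
          exact QuotientGroup.eq.2 (by rw [Subgroup.mem_subgroupOf]; exact QuotientGroup.eq.1 e)
    · intro c
      induction c using QuotientGroup.induction_on with
      | _ g =>
        obtain ⟨m, hm⟩ := isConj_iff.1 (se_isConj hyp.stronglyEmbedded
          (a := ⟨h.z, hzM⟩) (b := ⟨g * h.z * g⁻¹, hM.conj_mem _ hzM g⟩)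
          (by rw [Subgroup.orderOf_mk]; exact h.z_ord)
          (by rw [Subgroup.orderOf_mk, order_conj]; exact h.z_ord))
        have hm' : (m : G) * h.z * (m : G)⁻¹ = g * h.z * g⁻¹ := congrArg Subtype.val hm
        refine ⟨Quotient.mk'' m, QuotientGroup.eq.2 (mem_Cn.2 (mul_inv_eq_iff_eq_mul.1 ?_))⟩
        rw [show (m : G)⁻¹ * g * h.z * ((m : G)⁻¹ * g)⁻¹ = (m : G)⁻¹ * (g * h.z * g⁻¹) * m by group, ← hm']
        group
  -- semiregularity
  have hidx : (h.A.subgroupOf M).index = (q - 1) * (q + 1) := by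
    have := (h.A.subgroupOf M).card_mul_index
    rw [hAMcard, hMcard] at this
    exact Nat.eq_of_mul_eq_mul_left (by omega) this
  have hk : h.k = q - 1 := by
    haveI := Fintype.ofFinite (S : Subgroup M)
    classical
    have e : h.k = Nat.card {x : (S : Subgroup M) // x ≠ 1} := by
      refine Nat.card_congr ⟨fun t => ⟨⟨⟨t.1, hinv _ t.2.1⟩, hS (h.mem_T_of_invol (h.invol_mem_A t.2.1 t.2.2) t.2.1)⟩,
        fun e => ne_one t.2.1 (congrArg (fun x : (S : Subgroup M) => ((x : M) : G)) e)⟩,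
        fun x => ⟨((x.1 : M) : G), ?_, h.A_le_H (h.T_le (hS' _ x.1.2))⟩, fun t => rfl, fun x => rfl⟩
      obtain ⟨j, hj⟩ := S.2 x.1
      refine order_two_of_sq (congrArg Subtype.val (hg.two_elt (j := j) (congrArg Subtype.val hj))) fun e => x.2 ?_
      exact Subtype.ext (Subtype.ext e)
    rw [e, Nat.card_eq_fintype_card, Fintype.card_subtype_compl, Fintype.card_subtype_eq,
      ← Nat.card_eq_fintype_card, ← hq]
  have hHidx : h.H.index = q + 1 := by
    have h2 := h.H.card_mul_index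
    rw [← h.A.card_mul_index, hsame, hidx, h.card_H, hk, mul_assoc] at h2
    exact Nat.eq_of_mul_eq_mul_left (by omega) (Nat.eq_of_mul_eq_mul_left Nat.card_pos h2)
  have hcore : h.H.normalCore = ⊥ := by
    by_contra hne
    obtain ⟨u, hu, huH⟩ := h.exists_invol_not_mem
    exact huH (h.H.normalCore_le (h.exists_invol_out inferInstance
      (h.z_mem_normal hno inferInstance hne) hu))
  obtain ⟨u, hu, huH⟩ := h.exists_invol_not_mem
  -- `T ∩ M` is transitive on the other points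
  set y₀ : G ⧸ h.H := (u : G ⧸ h.H) with hy₀
  set x₀ : G ⧸ h.H := ((1 : G) : G ⧸ h.H) with hx₀
  have hfix : ∀ a ∈ h.H, a • x₀ = x₀ := fun a ha => by
    rw [hx₀, MulAction.Quotient.smul_mk, QuotientGroup.eq, smul_eq_mul, mul_one, mul_one]
    exact inv_mem ha
  have hy : y₀ ≠ x₀ := fun e => huH (by
    have := QuotientGroup.eq.1 e
    rw [mul_one] at this
    simpa using inv_mem this)
  have hne : ∀ a ∈ h.H, a • y₀ ≠ x₀ := fun a ha e => hy (by
    rwa [← hfix a ha, smul_left_cancel_iff] at e)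
  have hfree : ∀ t : (S : Subgroup M), ((t : M) : G) • y₀ = y₀ → t = 1 := by
    intro t ht
    by_contra ht1
    obtain ⟨j, hj⟩ := S.2 t
    have hto : orderOf ((t : M) : G) = 2 := order_two_of_sq
      (congrArg Subtype.val (hg.two_elt (j := j) (congrArg Subtype.val hj))) fun e => ht1 (Subtype.ext (Subtype.ext e))
    refine hy (se_fix_unique h.stronglyEmbedded hto ht (hfix _ (h.A_le_H (h.T_le (hS' _ t.2)))))
  let f : ↥(S : Subgroup M) → {c : G ⧸ h.H // c ≠ x₀} := fun t =>
    ⟨((t : M) : G) • y₀, hne _ (h.A_le_H (h.T_le (hS' _ t.2)))⟩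
  have hfinj : Function.Injective f := by
    intro a b e
    have e' : ((a : M) : G) • y₀ = ((b : M) : G) • y₀ := congrArg Subtype.val e
    refine inv_mul_eq_one.1 (hfree (a⁻¹ * b) ?_)
    simp only [Subgroup.coe_mul, Subgroup.coe_inv, mul_smul]
    rw [← e', inv_smul_smul]
  have hY : Nat.card {c : G ⧸ h.H // c ≠ x₀} = q := by
    classical
    haveI := Fintype.ofFinite (G ⧸ h.H)
    rw [Nat.card_eq_fintype_card, Fintype.card_subtype_compl, Fintype.card_subtype_eq,
      ← Nat.card_eq_fintype_card, ← Subgroup.index_eq_card, hHidx, Nat.add_sub_cancel]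
  have hfsurj : Function.Surjective f := ((Nat.bijective_iff_injective_and_card f).2 ⟨hfinj, hY.symm⟩).2
  have hcoreq : ∀ g : G, (∀ c : G ⧸ h.H, g • c = c) → g = 1 := fun g hg' => by
    rw [← Subgroup.mem_bot, ← hcore, Subgroup.normalCore_eq_ker, MonoidHom.mem_ker]
    exact Equiv.ext hg'
  have hAle : h.A ≤ M := by
    intro a ha
    obtain ⟨t, ht⟩ := hfsurj ⟨a • y₀, hne a (h.A_le_H ha)⟩
    have ht' : ((t : M) : G) • y₀ = a • y₀ := congrArg Subtype.val ht
    set b := (((t : M) : G))⁻¹ * a with hb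
    have hbA : b ∈ h.A := mul_mem (inv_mem (h.T_le (hS' _ t.2))) ha
    have hb1 : b = 1 := hcoreq b fun c => by
      by_cases hc : c = x₀
      · rw [hc]; exact hfix b (h.A_le_H hbA)
      obtain ⟨s, hs⟩ := hfsurj ⟨c, hc⟩
      have hs' : ((s : M) : G) • y₀ = c := congrArg Subtype.val hs
      rw [← hs', ← mul_smul, h.comm_A hbA (h.T_le (hS' _ s.2)), mul_smul, hb, mul_smul, ← ht',
        inv_smul_smul]
    have e : ((t : M) : G) = a := inv_mul_eq_one.1 hb1
    exact e ▸ (t : M).2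
  refine htop ((Subgroup.eq_top_iff' _).2 fun g => ?_)
  obtain ⟨m, hm⟩ := isConj_iff.1 (se_isConj hyp.stronglyEmbedded
    (a := ⟨h.z, hzM⟩) (b := ⟨g * h.z * g⁻¹, hM.conj_mem _ hzM g⟩)
    (by rw [Subgroup.orderOf_mk]; exact h.z_ord)
    (by rw [Subgroup.orderOf_mk, order_conj]; exact h.z_ord))
  have hm' : (m : G) * h.z * (m : G)⁻¹ = g * h.z * g⁻¹ := congrArg Subtype.val hm
  have hmem : (m : G)⁻¹ * g ∈ h.A := mem_Cn.2 (mul_inv_eq_iff_eq_mul.1 (by
    rw [show (m : G)⁻¹ * g * h.z * ((m : G)⁻¹ * g)⁻¹ = (m : G)⁻¹ * (g * h.z * g⁻¹) * m by group, ← hm']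
    group))
  have := mul_mem m.2 (hAle hmem)
  rwa [mul_inv_cancel_left] at this

end Hyp

end Cfsg.Agent.AbelCent
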